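import Cfsg.Agent.Lib.FrobSys.Basic
import Cfsg.Agent.Lib.FrobCompl.Center
import Cfsg.Agent.Lib.CNOdd.Partition

/-!
# Frobenius systems: subgroups of odd order are solvable
-/

set_option autoImplicit false
set_option linter.unusedSectionVars false
set_option linter.style.haveILetI false

open Cfsg

namespace Cfsg.Agent.FrobSys

universe u

variable {G : Type u} [Group G] [Finite G] {F : Subgroup G → Subgroup G}

/-- The last term of the derived series. -/
theorem exists_perfect (X : Type*) [Group X] [Finite X] :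
    ∃ D : Subgroup X, D.Normal ∧ ⁅D, D⁆ = D ∧ (¬ Group.IsSolvable X → D ≠ ⊥) := by
  obtain ⟨n, hn⟩ : ∃ n, derivedSeries X (n + 1) = derivedSeries X n := by
    by_contra hno
    push Not at hno
    have hlt : ∀ n, Nat.card (derivedSeries X n) + n ≤ Nat.card X := by
      intro n
      induction n with
      | zero => simpa using Subgroup.card_le_card_group _
      | succ n ih =>
        have hle : derivedSeries X (n + 1) ≤ derivedSeries X n := derivedSeries_antitone X (Nat.le_succ n)
        have : Nat.card (derivedSeries X (n + 1)) < Nat.card (derivedSeries X n) :=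
          lt_of_le_of_ne (Subgroup.card_le_of_le hle) fun e =>
            hno n (Subgroup.eq_of_le_of_card_ge hle e.ge)
        omega
    have := hlt (Nat.card X)
    have := (Nat.card_pos : 0 < Nat.card (derivedSeries X (Nat.card X)))
    omega
  exact ⟨derivedSeries X n, derivedSeries_normal X n, (derivedSeries_succ X n).symm.trans hn,
    fun hns e => hns ⟨n, e⟩⟩

/-- A perfect subgroup lies in every normal subgroup with solvable quotient. -/
theorem perfect_le {X : Type*} [Group X] {D N : Subgroup X} [N.Normal] (hD : ⁅D, D⁆ = D)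
    (hq : Group.IsSolvable (X ⧸ N)) : D ≤ N := by
  set E := D.map (QuotientGroup.mk' N) with hE
  have h1 : ⁅E, E⁆ = E := by rw [hE, ← Subgroup.map_commutator, hD]
  have h2 : ∀ n, E ≤ derivedSeries (X ⧸ N) n := by
    intro n
    induction n with
    | zero => simp
    | succ n ih => rw [derivedSeries_succ, ← h1]; exact Subgroup.commutator_mono ih ih
  obtain ⟨n, hn⟩ := hq
  intro x hx
  have := (h2 n) ⟨x, hx, rfl⟩
  rw [hn, Subgroup.mem_bot] at this
  exact (QuotientGroup.eq_one_iff x).1 this

variable (h : Sys F) (hns : ¬ Group.IsSolvable G)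

include h hns

/-- The centraliser, in a group of odd order, of an element outside every kernel is solvable. -/
theorem outer_centralizer_solvable {X : Subgroup G} (hodd : Odd (Nat.card X)) {x : G}
    (hx : ∀ M, MaxSol M → x ∉ F M) (hX : X ≤ Subgroup.centralizer ({x} : Set G)) :
    Group.IsSolvable X := by
  refine solvable_of_local X fun S hS => ?_
  haveI := hS
  set S' := S.map X.subtype
  have hS'X : S' ≤ X := Subgroup.map_subtype_le _
  have hsol : Group.IsSolvable S' := Group.isSolvable_of_surjective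
    (f := (S.equivMapOfInjective X.subtype X.subtype_injective).toMonoidHom) (MulEquiv.surjective _)
  have hxn : x ∈ Subgroup.normalizer (S' : Set G) := Subgroup.centralizer_le_normalizer _
    (Subgroup.mem_centralizer_iff.2 fun y hy =>
      Subgroup.mem_centralizer_singleton_iff.1 (hX (hS'X hy)))
  obtain ⟨M, hM, hle⟩ := exists_maxSol (isSolvable_sup_zpowers hsol hxn)
  have hSM : S' ≤ M := le_sup_left.trans hle
  by_cases hne : F M = ⊥
  · left
    haveI := (h.ab M hM).resolve_left (fun e => e hne)
    refine ⟨⟨fun a b => (S.equivMapOfInjective X.subtype X.subtype_injective).injective ?_⟩⟩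
    rw [map_mul, map_mul]
    apply Subtype.ext
    exact congrArg (Subtype.val : M → G) (mul_comm'
      (⟨_, hSM (S.equivMapOfInjective X.subtype X.subtype_injective a).2⟩ : M)
      ⟨_, hSM (S.equivMapOfInjective X.subtype X.subtype_injective b).2⟩)
  right
  have hint : S' ⊓ F M = ⊥ := by
    rw [eq_bot_iff]
    rintro y ⟨hy, hyF⟩
    rw [Subgroup.mem_bot]
    by_contra hy1
    refine hx M hM (centralizer_le h hM hyF hy1 ?_)
    exact Subgroup.mem_centralizer_singleton_iff.2
      (Subgroup.mem_centralizer_singleton_iff.1 (hX (hS'X hy))).symm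
  obtain ⟨V, hVc, hV, hSV, hfpf⟩ := exists_fpf h hM hns hne hSM hint
  haveI := hVc
  have hodd' : Odd (Nat.card S') := hodd.of_dvd_nat (Subgroup.card_dvd_of_le hS'X)
  refine ⟨fun p hp P => ?_⟩
  haveI := Fact.mk hp
  by_cases hp2 : p = 2
  · subst hp2
    have : (P : Subgroup S) = ⊥ := by
      obtain ⟨k, hk⟩ := IsPGroup.iff_card.1 P.2
      rcases Nat.eq_zero_or_pos k with rfl | hk0
      · exact Subgroup.eq_bot_of_card_eq _ (by rw [hk, pow_zero])
      · exfalso
        have : 2 ∣ Nat.card S' := by
          rw [← Nat.card_congr (S.equivMapOfInjective X.subtype X.subtype_injective).toEquiv]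
          exact ((dvd_pow_self 2 hk0.ne').trans (dvd_of_eq hk.symm)).trans
            (Subgroup.card_subgroup_dvd_card _)
        exact (Nat.not_even_iff_odd.2 hodd') (even_iff_two_dvd.2 this)
    haveI : Subsingleton (P : Subgroup S) := by rw [this]; infer_instance
    infer_instance
  haveI hcyc := (CfsgLib.FrobCompl.sylow_structure hV hSV hfpf
    ((P.2.map S.subtype).map X.subtype)
    (Subgroup.map_mono (Subgroup.map_subtype_le _))).1 hp2
  exact isCyclic_of_surjective _
    (((P : Subgroup S).equivMapOfInjective S.subtype S.subtype_injective).trans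
      (((P : Subgroup S).map S.subtype).equivMapOfInjective X.subtype X.subtype_injective)).symm.surjective

/-- `C` is a non-nilpotent subgroup of `D` inside a complement. -/
def Bad (F : Subgroup G → Subgroup G) (D C : Subgroup G) : Prop :=
  C ≤ D ∧ ¬ Group.IsNilpotent C ∧ ∃ M, MaxSol M ∧ C ≤ M ∧ C ⊓ F M = ⊥

theorem false_of_perfect {D : Subgroup G} (hD : ⁅D, D⁆ = D) (hodd : Odd (Nat.card D))
    (hne : D ≠ ⊥) : False := by
  classical
  have hDtop : commutator D = ⊤ := by
    apply Subgroup.map_injective D.subtype_injective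
    rw [Subgroup.map_subtype_commutator, hD, ← MonoidHom.range_eq_map, Subgroup.range_subtype]
  have hDns : ¬ Group.IsSolvable D := by
    intro hs
    haveI := hs
    haveI : Nontrivial D := (Subgroup.nontrivial_iff_ne_bot _).2 hne
    exact (Group.IsSolvable.commutator_lt_top_of_nontrivial D).ne hDtop
  -- an odd subgroup with a non-nilpotent centraliser of an element gives a bad subgroup
  have hbad : ∀ x ∈ D, x ≠ 1 → ¬ Group.IsNilpotent (D ⊓ Subgroup.centralizer ({x} : Set G) : Subgroup G) →
      Bad F D (D ⊓ Subgroup.centralizer ({x} : Set G)) := by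
    intro x hxD hx1 hnn
    have hout : ∀ M, MaxSol M → x ∉ F M := fun M hM hxF => hnn (by
      haveI := kernel_nilpotent h hM hns
      exact CNOdd.nilpotent_mono (inf_le_right.trans (centralizer_le h hM hxF hx1)) inferInstance)
    obtain ⟨M, hM, hle⟩ := exists_maxSol (outer_centralizer_solvable h hns
      (hodd.of_dvd_nat (Subgroup.card_dvd_of_le inf_le_left)) hout inf_le_right)
    refine ⟨inf_le_left, hnn, M, hM, hle, ?_⟩
    rw [eq_bot_iff]
    rintro y ⟨⟨-, hyc⟩, hyF⟩
    rw [Subgroup.mem_bot]
    by_contra hy1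
    exact hout M hM (centralizer_le h hM hyF hy1 (Subgroup.mem_centralizer_singleton_iff.2
      (Subgroup.mem_centralizer_singleton_iff.1 hyc).symm))
  by_cases hex : ∃ C, Bad F D C
  swap
  · -- `D` is a CN-group of odd order
    refine hDns (CNOdd.isSolvable_of_cn hodd fun x hx => ?_)
    by_contra hnn
    have hx' : (x : G) ≠ 1 := fun e => hx (Subtype.ext e)
    refine hex ⟨_, hbad x x.2 hx' fun hnil => hnn ?_⟩
    haveI := hnil
    let f : Subgroup.centralizer ({x} : Set D) →*
        (D ⊓ Subgroup.centralizer ({(x : G)} : Set G) : Subgroup G) :=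
      { toFun := fun c => ⟨((c : D) : G), (c : D).2, Subgroup.mem_centralizer_singleton_iff.2
          (congrArg Subtype.val (Subgroup.mem_centralizer_singleton_iff.1 c.2))⟩
        map_one' := rfl
        map_mul' := fun _ _ => rfl }
    have hf : Function.Injective f := fun a b e => Subtype.ext (Subtype.ext (Subtype.ext_iff.1 e :))
    haveI : Group.IsNilpotent f.range := inferInstance
    exact (Group.isNilpotent_congr (MonoidHom.ofInjective hf)).2 inferInstance
  obtain ⟨C, hC, hmax⟩ := Set.exists_max_image {C : Subgroup G | Bad F D C} (fun C => Nat.card C)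
    (Set.toFinite _) hex
  obtain ⟨hCD, hCnn, M, hM, hCM, hCF⟩ := hC
  have hCne : C ≠ ⊥ := fun e => hCnn (by subst e; infer_instance)
  have hFne : F M ≠ ⊥ := fun e => hCnn (by
    haveI := (h.ab M hM).resolve_left (fun e' => e' e)
    have hcc : IsMulCommutative C := ⟨⟨fun a b => Subtype.ext (by
      exact congrArg (Subtype.val : M → G)
        (mul_comm' (⟨(a : G), hCM a.2⟩ : M) ⟨(b : G), hCM b.2⟩))⟩⟩
    letI : CommGroup C := { (inferInstance : Group C) with mul_comm := fun a b => mul_comm' a b }
    exact CommGroup.isNilpotent)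
  obtain ⟨V, hVc, hV, hCV, hfpf⟩ := exists_fpf h hM hns hFne hCM hCF
  haveI := hVc
  have hcen := CfsgLib.FrobCompl.center_ne_bot hCne hV hCV hfpf
  have hcard : Nat.card (Subgroup.center C) ≠ 1 := fun e => hcen (Subgroup.eq_bot_of_card_eq _ e)
  obtain ⟨q, hq, hqd⟩ := Nat.exists_prime_and_dvd hcard
  haveI := Fact.mk hq
  obtain ⟨zc, hzc⟩ := exists_prime_orderOf_dvd_card' (G := Subgroup.center C) q hqd
  set z : G := ((zc : C) : G) with hzdef
  have hzC : z ∈ C := (zc : C).2
  have hzo : orderOf z = q := by rw [hzdef, Subgroup.orderOf_coe, Subgroup.orderOf_coe, hzc]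
  have hz1 : z ≠ 1 := fun e => by rw [e, orderOf_one] at hzo; exact hq.ne_one hzo.symm
  have hzcomm : ∀ c ∈ C, c * z = z * c := fun c hc =>
    congrArg Subtype.val (Subgroup.mem_center_iff.1 zc.2 ⟨c, hc⟩)
  have hCle : C ≤ D ⊓ Subgroup.centralizer ({z} : Set G) :=
    le_inf hCD fun c hc => Subgroup.mem_centralizer_singleton_iff.2 (hzcomm c hc)
  -- the centraliser of `z` in `D` is `C`
  have hCz : D ⊓ Subgroup.centralizer ({z} : Set G) = C := by
    have hb := hbad z (hCD hzC) hz1 fun hn => hCnn (CNOdd.nilpotent_mono hCle hn)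
    exact (Subgroup.eq_of_le_of_card_ge hCle (hmax _ hb)).symm
  have hzout : ∀ M', MaxSol M' → z ∉ F M' := fun M' hM' hzF => hCnn (by
    haveI := kernel_nilpotent h hM' hns
    exact CNOdd.nilpotent_mono ((hCle.trans inf_le_right).trans (centralizer_le h hM' hzF hz1))
      inferInstance)
  -- the normaliser of `⟨z⟩` in `D` is `C`
  set N := D ⊓ Subgroup.normalizer ((Subgroup.zpowers z : Subgroup G) : Set G) with hNdef
  have hCN : C ≤ N := le_inf hCD fun c hc => mem_normalizer_zpowers_iff.2
    (by rw [hzcomm c hc, mul_inv_cancel_right]; exact Subgroup.mem_zpowers z)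
  have hNC : N = C := by
    have hcomm : ⁅N, N⁆ ≤ C := by
      rw [Subgroup.commutator_le]
      intro a ha b hb
      rw [← hCz]
      have haD : a ∈ D := ha.1
      have hbD : b ∈ D := hb.1
      refine ⟨D.mul_mem (D.mul_mem (D.mul_mem haD hbD) (D.inv_mem haD)) (D.inv_mem hbD),
        Subgroup.mem_centralizer_singleton_iff.2 ?_⟩
      have key : ∀ c ∈ Subgroup.normalizer ((Subgroup.zpowers z : Subgroup G) : Set G),
          ∃ i : ℤ, c * z * c⁻¹ = z ^ i := fun c hc => by
        obtain ⟨i, hi⟩ := Subgroup.mem_zpowers_iff.1 (mem_normalizer_zpowers_iff.1 hc)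
        exact ⟨i, hi.symm⟩
      obtain ⟨i, hi⟩ := key a ha.2
      obtain ⟨j, hj⟩ := key b hb.2
      obtain ⟨i', hi'⟩ := key a⁻¹ (inv_mem ha.2)
      obtain ⟨j', hj'⟩ := key b⁻¹ (inv_mem hb.2)
      rw [inv_inv] at hi' hj'
      have hii : z ^ (i * i') = z := by
        rw [zpow_mul, ← hi, conj_zpow, ← hi']; group
      have hjj : z ^ (j * j') = z := by
        rw [zpow_mul, ← hj, conj_zpow, ← hj']; group
      have hfix : (a * b * a⁻¹ * b⁻¹) * z * (a * b * a⁻¹ * b⁻¹)⁻¹ = z := by
        calc a * b * a⁻¹ * b⁻¹ * z * (a * b * a⁻¹ * b⁻¹)⁻¹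
            = a * (b * (a⁻¹ * (b⁻¹ * z * b) * a) * b⁻¹) * a⁻¹ := by group
          _ = a * (b * (a⁻¹ * z * a) ^ j' * b⁻¹) * a⁻¹ := by
              rw [hj']
              have : a⁻¹ * z ^ j' * a = (a⁻¹ * z * a) ^ j' := by
                have := conj_zpow (a := a⁻¹) (b := z) (i := j')
                rw [inv_inv] at this
                exact this.symm
              rw [this]
          _ = a * (b * z ^ (i' * j') * b⁻¹) * a⁻¹ := by rw [hi', ← zpow_mul]
          _ = a * z ^ (j * (i' * j')) * a⁻¹ := by rw [← conj_zpow, hj, ← zpow_mul]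
          _ = z ^ (i * (j * (i' * j'))) := by rw [← conj_zpow, hi, ← zpow_mul]
          _ = z := by
              rw [show i * (j * (i' * j')) = (i * i') * (j * j') by ring, zpow_mul, hii, hjj]
      exact mul_inv_eq_iff_eq_mul.1 hfix
    have hNsol : Group.IsSolvable N := by
      have hCsol : Group.IsSolvable C := isSolvable_of_le hCM hM.1
      have hsol : Group.IsSolvable (commutator N) := by
        have h1 : (commutator N).map N.subtype ≤ C := by
          rw [Subgroup.map_subtype_commutator]; exact hcomm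
        haveI := isSolvable_of_le h1 hCsol
        exact Group.isSolvable_of_isSolvable_injective
          (f := ((commutator N).equivMapOfInjective N.subtype N.subtype_injective).toMonoidHom)
          (MulEquiv.injective _)
      haveI := hsol
      haveI : Group.IsSolvable (N ⧸ commutator N) :=
        Group.isSolvable_of_comm fun a b => @mul_comm (Abelianization N) _ a b
      exact Group.isSolvable_of_ker_le_range (commutator N).subtype (QuotientGroup.mk' (commutator N))
        (by rw [QuotientGroup.ker_mk', Subgroup.range_subtype])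
    obtain ⟨M3, hM3, hle⟩ := exists_maxSol hNsol
    have hint : N ⊓ F M3 = ⊥ := by
      rw [eq_bot_iff]
      rintro f ⟨hfN, hfF⟩
      rw [Subgroup.mem_bot]
      by_contra hf1
      have hzM3 : z ∈ M3 := hle (hCN hzC)
      have h1 : f * z * f⁻¹ * z⁻¹ ∈ Subgroup.zpowers z :=
        mul_mem (mem_normalizer_zpowers_iff.1 hfN.2) (inv_mem (Subgroup.mem_zpowers z))
      have h2 : f * z * f⁻¹ * z⁻¹ ∈ F M3 := by
        have := (Subgroup.mem_normalizer_iff.1 (h.norm M3 hM3 hzM3) f⁻¹).1 (inv_mem hfF)
        have := mul_mem hfF this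
        simpa [mul_assoc] using this
      by_cases he : f * z * f⁻¹ * z⁻¹ = 1
      · have hc : z ∈ Subgroup.centralizer ({f} : Set G) :=
          Subgroup.mem_centralizer_singleton_iff.2
            (mul_inv_eq_iff_eq_mul.1 (mul_inv_eq_one.1 he)).symm
        exact hzout M3 hM3 (centralizer_le h hM3 hfF hf1 hc)
      · have hgen : Subgroup.zpowers (f * z * f⁻¹ * z⁻¹) = Subgroup.zpowers z := by
          refine Subgroup.eq_of_le_of_card_ge (Subgroup.zpowers_le.2 h1) ?_
          rw [Nat.card_zpowers, Nat.card_zpowers, hzo]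
          have hd := hzo ▸ (Nat.card_zpowers z ▸ Subgroup.orderOf_dvd_natCard _ h1)
          rcases (Nat.dvd_prime hq).1 hd with e | e
          · exact absurd (orderOf_eq_one_iff.1 e) he
          · exact e.ge
        have : z ∈ Subgroup.zpowers (f * z * f⁻¹ * z⁻¹) := hgen ▸ Subgroup.mem_zpowers z
        exact hzout M3 hM3 (Subgroup.zpowers_le.2 h2 this)
    exact (Subgroup.eq_of_le_of_card_ge hCN (hmax N
      ⟨inf_le_left, fun hn => hCnn (CNOdd.nilpotent_mono hCN hn), M3, hM3, hle, hint⟩)).symm
  -- a Sylow `q`-subgroup of `D` containing `z`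
  set zD : D := ⟨z, hCD hzC⟩
  have hzDo : orderOf zD = q := by rw [Subgroup.orderOf_mk, hzo]
  obtain ⟨Q₀, hQ₀⟩ : ∃ Q₀ : Sylow q C, (⟨z, hzC⟩ : C) ∈ (Q₀ : Subgroup C) := by
    obtain ⟨Q₀, hle⟩ := (isPGroup_zpowers_prime (p := q) (a := (⟨z, hzC⟩ : C))
      (by rw [Subgroup.orderOf_mk, hzo])).exists_le_sylow
    exact ⟨Q₀, hle (Subgroup.mem_zpowers _)⟩
  set R := (Q₀ : Subgroup C).map C.subtype
  have hRC : R ≤ C := Subgroup.map_subtype_le _
  have hqne : q ≠ 2 := by
    rintro rfl
    have := hzo ▸ Subgroup.orderOf_dvd_natCard D (hCD hzC)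
    exact (Nat.not_even_iff_odd.2 hodd) (even_iff_two_dvd.2 this)
  have hRc : IsCyclic R :=
    (CfsgLib.FrobCompl.sylow_structure hV hCV hfpf (Q₀.2.map C.subtype) hRC).1 hqne
  set R' := R.subgroupOf D
  have hR'p : IsPGroup q R' := (Q₀.2.map C.subtype).comap_of_injective D.subtype D.subtype_injective
  obtain ⟨Q, hQ⟩ := hR'p.exists_le_sylow
  have hzR : z ∈ R := ⟨_, hQ₀, rfl⟩
  have hzQ : zD ∈ (Q : Subgroup D) := hQ hzR
  -- elements normalising a group containing `z` with one subgroup of order `q` lie in `C`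
  have hnorm : ∀ (g : D) (T : Subgroup G), IsCyclic T → z ∈ T →
      (∀ x ∈ T, (g : G) * x * (g : G)⁻¹ ∈ T) → (g : G) ∈ C := by
    intro g T hT hzT hgT
    rw [← hNC]
    refine ⟨g.2, mem_normalizer_zpowers_iff.2 ?_⟩
    haveI := hT
    let _ := Fintype.ofFinite T
    have hsub : ∀ x : T, x ^ q = 1 → (x : G) ∈ Subgroup.zpowers z := by
      intro x hx
      by_contra hxz
      have h3 := IsCyclic.card_pow_eq_one_le (α := T) hq.pos
      have hset : (insert x (Finset.filter (fun y : T => (y : G) ∈ Subgroup.zpowers z) Finset.univ) : Finset T) ⊆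
          Finset.univ.filter fun y : T => y ^ q = 1 := by
        intro y hy
        rw [Finset.mem_insert, Finset.mem_filter] at hy
        rw [Finset.mem_filter]
        refine ⟨Finset.mem_univ _, ?_⟩
        rcases hy with rfl | ⟨-, hy⟩
        · exact hx
        · obtain ⟨k, hk⟩ := Subgroup.mem_zpowers_iff.1 hy
          apply Subtype.ext
          rw [Subgroup.coe_pow, ← hk, ← zpow_natCast, ← zpow_mul, mul_comm, zpow_mul, zpow_natCast,
            ← hzo, pow_orderOf_eq_one, one_zpow, Subgroup.coe_one]
      have h4 := Finset.card_le_card hset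
      rw [Finset.card_insert_of_notMem (by simp [hxz])] at h4
      have h5 : q ≤ (Finset.filter (fun y : T => (y : G) ∈ Subgroup.zpowers z) Finset.univ).card := by
        rw [← Fintype.card_subtype, ← Nat.card_eq_fintype_card, ← hzo, ← Nat.card_zpowers]
        exact Nat.card_le_card_of_injective
          (fun y => (⟨⟨y.1, (Subgroup.zpowers_le.2 hzT) y.2⟩, y.2⟩ :
            {y : T // (y : G) ∈ Subgroup.zpowers z}))
          (fun a b e => Subtype.ext (congrArg (fun w : {y : T // (y : G) ∈ Subgroup.zpowers z} => ((w.1 : T) : G)) e))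
      omega
    exact hsub ⟨_, hgT z hzT⟩ (Subtype.ext (by
      rw [Subgroup.coe_pow, conj_pow, ← hzo, pow_orderOf_eq_one]; simp))
  have hQR : (Q : Subgroup D) = R' := by
    refine le_antisymm ?_ hQ
    by_contra hlt
    haveI : Group.IsNilpotent (Q : Subgroup D) := Q.2.isNilpotent
    have hsub : R'.subgroupOf (Q : Subgroup D) < ⊤ :=
      lt_top_iff_ne_top.2 fun e => hlt (Subgroup.subgroupOf_eq_top.1 e)
    have hnc := normalizerCondition_of_isNilpotent _ hsub
    obtain ⟨g, hgN, hgR⟩ := SetLike.exists_of_lt hnc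
    have hgC : ((g : D) : G) ∈ C := by
      refine hnorm g R hRc hzR fun x hx => ?_
      have hxD : x ∈ D := hCD (hRC hx)
      have hxQ : (⟨x, hxD⟩ : D) ∈ (Q : Subgroup D) := hQ (Subgroup.mem_subgroupOf.2 hx)
      have := (Subgroup.mem_normalizer_iff.1 hgN ⟨⟨x, hxD⟩, hxQ⟩).1 (by
        simpa [Subgroup.mem_subgroupOf, R'] using hx)
      simpa [Subgroup.mem_subgroupOf, R'] using this
    -- the elements of `Q` in `C` lie in `R`
    have hQC : IsPGroup q (((Q : Subgroup D).map D.subtype).subgroupOf C) :=
      (Q.2.map D.subtype).comap_of_injective C.subtype C.subtype_injective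
    have hQ₀le : (Q₀ : Subgroup C) ≤ ((Q : Subgroup D).map D.subtype).subgroupOf C := by
      intro c hc
      rw [Subgroup.mem_subgroupOf]
      exact ⟨⟨(c : G), hCD c.2⟩, hQ (Subgroup.mem_subgroupOf.2 ⟨c, hc, rfl⟩), rfl⟩
    have heq := Q₀.3 hQC hQ₀le
    apply hgR
    rw [Subgroup.mem_subgroupOf, Subgroup.mem_subgroupOf]
    refine ⟨⟨_, hgC⟩, ?_, rfl⟩
    show (⟨_, hgC⟩ : C) ∈ (Q₀ : Subgroup C)
    rw [← heq, Subgroup.mem_subgroupOf]
    exact ⟨(g : D), g.2, rfl⟩
  haveI : IsCyclic (Q : Subgroup D) := by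
    rw [hQR]
    haveI := hRc
    exact isCyclic_of_surjective _ (Subgroup.subgroupOfEquivOfLe (hRC.trans hCD)).symm.surjective
  have hle := normalizer_le_centralizer_of_omega Q hzQ hzDo fun g hg => by
    have hgC : (g : G) ∈ C := by
      refine hnorm g R hRc hzR fun x hx => ?_
      have hxQ : (⟨x, hCD (hRC hx)⟩ : D) ∈ (Q : Subgroup D) := hQ (Subgroup.mem_subgroupOf.2 hx)
      have := (Subgroup.mem_normalizer_iff.1 hg _).1 hxQ
      rw [hQR, Subgroup.mem_subgroupOf] at this
      exact this
    exact Subtype.ext (hzcomm _ hgC)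
  have hc := MonoidHom.ker_transferSylow_isComplement' Q hle
  -- a transfer to an abelian group kills the commutator subgroup
  haveI : IsMulCommutative (Q : Subgroup D) := IsCyclic.isMulCommutative
  have hker : (MonoidHom.transferSylow Q hle).ker = ⊤ := by
    rw [eq_top_iff, ← hDtop, commutator_def, Subgroup.commutator_le]
    intro a _ b _
    rw [MonoidHom.mem_ker, map_commutatorElement]
    exact commutatorElement_eq_one_iff_mul_comm.2 (mul_comm' _ _)
  rw [hker, Subgroup.isComplement'_top_left] at hc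
  rw [hc, Subgroup.mem_bot] at hzQ
  exact hz1 (congrArg Subtype.val hzQ)

/-- Subgroups of odd order are solvable. -/
theorem solvable_of_odd {X : Subgroup G} (hodd : Odd (Nat.card X)) : Group.IsSolvable X := by
  by_contra hX
  obtain ⟨D, -, hD, hne⟩ := exists_perfect X
  refine false_of_perfect h hns (D := D.map X.subtype) ?_ ?_ ?_
  · rw [← Subgroup.map_commutator, hD]
  · rw [Subgroup.card_map_of_injective X.subtype_injective]
    exact hodd.of_dvd_nat (Subgroup.card_subgroup_dvd_card D)
  · rw [ne_eq, Subgroup.map_eq_bot_iff_of_injective _ X.subtype_injective]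
    exact hne hX

end Cfsg.Agent.FrobSys
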