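import Mathlib
import Cfsg.Agent.S0033
import Cfsg.Agent.Lib.FrobCompl.Conjugate
import Cfsg.Agent.Lib.FrobCompl.Kernel
import Cfsg.Agent.Lib.FrobCompl.Noncyclic
import Cfsg.Agent.Lib.Critical.Basic

/-!
# Frobenius systems: the maximal solvable subgroups are Frobenius groups with trivial intersection kernels

A Frobenius system assigns to every maximal solvable subgroup `M` a normal subgroup `F M` which is a
trivial intersection set with the centraliser of each non-identity element of it inside it, and which is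
non-trivial unless `M` is abelian.
-/

set_option autoImplicit false
set_option linter.unusedSectionVars false
set_option linter.style.haveILetI false

open Cfsg
open scoped Pointwise

namespace Cfsg.Agent.FrobSys

universe u

variable {G : Type u} [Group G]

/-- `M` is a maximal solvable subgroup. -/
def MaxSol (M : Subgroup G) : Prop :=
  Group.IsSolvable M ∧ ∀ M' : Subgroup G, M < M' → ¬ Group.IsSolvable M'

/-- A Frobenius system. -/
structure Sys (F : Subgroup G → Subgroup G) : Prop where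
  le : ∀ M, MaxSol M → F M ≤ M
  norm : ∀ M, MaxSol M → M ≤ Subgroup.normalizer (F M : Set G)
  fpf : ∀ M, MaxSol M → ∀ a ∈ M, a ∉ F M → ∀ x ∈ F M, x * a = a * x → x = 1
  ti : ∀ M, MaxSol M → ∀ g : G, g ∉ M → F M ⊓ (MulAut.conj g • F M) = ⊥
  ab : ∀ M, MaxSol M → F M ≠ ⊥ ∨ IsMulCommutative M

theorem isSolvable_of_le {H K : Subgroup G} (h : H ≤ K) (hK : Group.IsSolvable K) :
    Group.IsSolvable H := by
  haveI := hK
  exact Group.isSolvable_of_isSolvable_injective (Subgroup.inclusion_injective h)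

theorem exists_maxSol [Finite G] {S : Subgroup G} (hS : Group.IsSolvable S) :
    ∃ M, MaxSol M ∧ S ≤ M := by
  obtain ⟨M, hSM, hM⟩ := Finite.exists_le_maximal (p := fun K : Subgroup G => Group.IsSolvable K) hS
  exact ⟨M, ⟨hM.prop, fun M' h hsol => h.not_ge (hM.2 hsol h.le)⟩, hSM⟩

theorem mem_normalizer_zpowers_iff [Finite G] {g z : G} :
    g ∈ Subgroup.normalizer ((Subgroup.zpowers z : Subgroup G) : Set G) ↔
      g * z * g⁻¹ ∈ Subgroup.zpowers z := by
  refine ⟨fun h => (Subgroup.mem_normalizer_iff.1 h z).1 (Subgroup.mem_zpowers z), fun h => ?_⟩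
  rw [Subgroup.mem_normalizer_iff_map_conj_eq]
  refine Subgroup.eq_of_le_of_card_ge ?_ (le_of_eq (Subgroup.card_map_of_injective (MulAut.conj g).injective).symm)
  rw [Subgroup.map_le_iff_le_comap, Subgroup.zpowers_le]
  exact h

theorem isPGroup_zpowers_prime [Finite G] {p : ℕ} [Fact p.Prime] {a : G} (ha : orderOf a = p) :
    IsPGroup p (Subgroup.zpowers a) :=
  IsPGroup.of_card (n := 1) (by rw [Nat.card_zpowers, ha, pow_one])

/-- A group generated by a normalised solvable subgroup and one element is solvable. -/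
theorem isSolvable_sup_zpowers [Finite G] {S : Subgroup G} (hS : Group.IsSolvable S) {g : G}
    (hg : g ∈ Subgroup.normalizer (S : Set G)) : Group.IsSolvable (S ⊔ Subgroup.zpowers g : Subgroup G) := by
  haveI := hS
  set T := S ⊔ Subgroup.zpowers g
  have hn : (S.subgroupOf T).Normal :=
    Subgroup.normal_subgroupOf_iff_le_normalizer le_sup_left |>.2
      (sup_le Subgroup.le_normalizer (Subgroup.zpowers_le.2 hg))
  haveI : Group.IsSolvable (S.subgroupOf T) :=
    Group.isSolvable_of_surjective (f := (Subgroup.subgroupOfEquivOfLe (le_sup_left : S ≤ T)).symm.toMonoidHom)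
      (MulEquiv.surjective _)
  let φ : Subgroup.zpowers g →* T ⧸ S.subgroupOf T :=
    (QuotientGroup.mk' _).comp (Subgroup.inclusion le_sup_right)
  have hφ : Function.Surjective φ := by
    intro y
    obtain ⟨⟨x, hx⟩, rfl⟩ := QuotientGroup.mk_surjective y
    have hx' : x ∈ (↑(S ⊔ Subgroup.zpowers g) : Set G) := hx
    rw [Subgroup.coe_mul_of_right_le_normalizer_left _ _ (Subgroup.zpowers_le.2 hg)] at hx'
    obtain ⟨s, hs, a, ha, rfl⟩ := Set.mem_mul.1 hx'
    refine ⟨⟨a, ha⟩, ?_⟩
    show QuotientGroup.mk (Subgroup.inclusion le_sup_right ⟨a, ha⟩) = _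
    rw [QuotientGroup.eq, Subgroup.mem_subgroupOf]
    have := (Subgroup.mem_normalizer_iff.1 (inv_mem (Subgroup.zpowers_le.2 hg ha)) s).1 hs
    simpa [mul_assoc] using this
  haveI : Group.IsSolvable (Subgroup.zpowers g) := by
    haveI : IsMulCommutative (Subgroup.zpowers g) := IsCyclic.isMulCommutative
    exact Group.isSolvable_of_comm fun a b => mul_comm' a b
  haveI : Group.IsSolvable (T ⧸ S.subgroupOf T) := Group.isSolvable_of_surjective hφ
  exact Group.isSolvable_of_ker_le_range (S.subgroupOf T).subtype (QuotientGroup.mk' (S.subgroupOf T))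
    (by rw [QuotientGroup.ker_mk', Subgroup.range_subtype])

/-- Two involutions acting fixed point freely on a nontrivial abelian group are equal. -/
theorem invol_unique {S V : Subgroup G} [IsMulCommutative V] (hV : V ≠ ⊥)
    (hSV : S ≤ Subgroup.normalizer (V : Set G))
    (hfpf : ∀ e ∈ S, e ≠ 1 → V ⊓ Subgroup.centralizer ({e} : Set G) = ⊥)
    {u w : G} (hu : u ∈ S) (hw : w ∈ S) (hu2 : orderOf u = 2) (hw2 : orderOf w = 2) : u = w := by
  have hinv : ∀ e ∈ S, orderOf e = 2 → ∀ v ∈ V, e * v * e = v⁻¹ := by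
    intro e he he2 v hv
    have hee : e * e = 1 := by
      have := pow_orderOf_eq_one e
      rwa [he2, pow_two] at this
    have hei : e⁻¹ = e := inv_eq_of_mul_eq_one_right hee
    have he1 : e ≠ 1 := fun h => by rw [h, orderOf_one] at he2; omega
    have hm : e * v * e ∈ V := by
      have := (Subgroup.mem_normalizer_iff.1 (hSV he) v).1 hv
      rwa [hei] at this
    have hc : e * v * e * v = v * (e * v * e) :=
      congrArg Subtype.val (mul_comm' (⟨_, hm⟩ : V) ⟨v, hv⟩)
    have hfix : e * v * e * v ∈ V ⊓ Subgroup.centralizer ({e} : Set G) := by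
      refine ⟨mul_mem hm hv, Subgroup.mem_centralizer_singleton_iff.2 ?_⟩
      calc e * v * e * v * e = e * v * e * v * e * 1 := (mul_one _).symm
        _ = e * (v * (e * v * e)) := by group
        _ = e * (e * v * e * v) := by rw [hc]
    rw [hfpf e he he1, Subgroup.mem_bot] at hfix
    exact eq_inv_of_mul_eq_one_left hfix
  by_contra hne
  obtain ⟨⟨v, hv⟩, hv1⟩ := Subgroup.ne_bot_iff_exists_ne_one.1 hV
  have hww : w * w = 1 := by
    have := pow_orderOf_eq_one w
    rwa [hw2, pow_two] at this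
  have huw : u * w ≠ 1 := fun h => hne (by
    rw [eq_inv_of_mul_eq_one_left h]; exact inv_eq_of_mul_eq_one_right hww)
  have huu : u * u = 1 := by
    have := pow_orderOf_eq_one u
    rwa [hu2, pow_two] at this
  have h1 := hinv u hu hu2 v hv
  have h2 := hinv w hw hw2 v hv
  have hfix : v ∈ V ⊓ Subgroup.centralizer ({u * w} : Set G) := by
    refine ⟨hv, Subgroup.mem_centralizer_singleton_iff.2 ?_⟩
    calc v * (u * w) = (u * u) * v * (u * w) := by rw [huu, one_mul]
      _ = u * (u * v * u) * w := by group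
      _ = u * (w * v * w) * w := by rw [h1, ← h2]
      _ = u * w * v * (w * w) := by group
      _ = u * w * v := by rw [hww, mul_one]
  rw [hfpf _ (mul_mem hu hw) huw, Subgroup.mem_bot] at hfix
  exact hv1 (Subtype.ext hfix)

section facts

variable [Finite G] {F : Subgroup G → Subgroup G} (h : Sys F) {M : Subgroup G} (hM : MaxSol M)

include h hM

theorem mem_of_inter {g x : G} (hx : x ∈ F M) (hgx : g * x * g⁻¹ ∈ F M) (hx1 : x ≠ 1) : g ∈ M := by
  by_contra hg
  have hmem : g * x * g⁻¹ ∈ F M ⊓ MulAut.conj g • F M :=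
    ⟨hgx, Subgroup.smul_mem_pointwise_smul x (MulAut.conj g) _ hx⟩
  rw [h.ti M hM g hg, Subgroup.mem_bot] at hmem
  exact hx1 (conj_eq_one_iff.1 hmem)

theorem normalizer_eq (hne : F M ≠ ⊥) : Subgroup.normalizer (F M : Set G) = M := by
  refine le_antisymm (fun g hg => ?_) (h.norm M hM)
  obtain ⟨⟨x, hx⟩, hx1⟩ := Subgroup.ne_bot_iff_exists_ne_one.1 hne
  exact mem_of_inter h hM hx ((Subgroup.mem_normalizer_iff.1 hg x).1 hx) fun e => hx1 (Subtype.ext e)

theorem centralizer_le {x : G} (hx : x ∈ F M) (hx1 : x ≠ 1) :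
    Subgroup.centralizer ({x} : Set G) ≤ F M := by
  intro g hg
  have hc : g * x = x * g := Subgroup.mem_centralizer_singleton_iff.1 hg
  have hgM : g ∈ M := mem_of_inter h hM hx
    (by rw [hc, mul_inv_cancel_right]; exact hx) hx1
  by_contra hgF
  exact hx1 (h.fpf M hM g hgM hgF x hx hc.symm)

/-- A `p`-subgroup of `M` lies in the kernel when `p` divides its order. -/
theorem pgroup_le {p : ℕ} [Fact p.Prime] (hp : p ∣ Nat.card (F M)) {P : Subgroup G}
    (hP : IsPGroup p P) (hPM : P ≤ M) : P ≤ F M := by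
  intro a ha
  by_contra haF
  set N := (F M).subgroupOf M
  haveI hN : N.Normal := Subgroup.normal_subgroupOf_iff_le_normalizer (h.le M hM) |>.2 (h.norm M hM)
  have hPsub : IsPGroup p (P.subgroupOf M) := hP.comap_of_injective M.subtype M.subtype_injective
  obtain ⟨Q, hQ⟩ := hPsub.exists_le_sylow
  have hpN : p ∣ Nat.card N := by
    rwa [Nat.card_congr (Subgroup.subgroupOfEquivOfLe (h.le M hM)).toEquiv]
  obtain ⟨R⟩ : Nonempty (Sylow p N) := inferInstance
  have hne : (Q : Subgroup M) ⊓ N ≠ ⊥ := by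
    intro e
    have hR : IsPGroup p ((R : Subgroup N).map N.subtype) := R.2.map _
    obtain ⟨Q', hQ'⟩ := hR.exists_le_sylow
    obtain ⟨g, hg⟩ := MulAction.exists_smul_eq M Q' Q
    have hle : ((R : Subgroup N).map N.subtype).map (MulAut.conj g).toMonoidHom ≤ (Q : Subgroup M) ⊓ N := by
      refine le_inf ?_ ?_
      · rw [← hg]
        exact Subgroup.map_mono hQ'
      · rintro _ ⟨r, ⟨r', -, rfl⟩, rfl⟩
        exact hN.conj_mem _ r'.2 g
    rw [e, le_bot_iff, Subgroup.map_eq_bot_iff_of_injective _ (MulAut.conj g).injective,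
      Subgroup.map_eq_bot_iff_of_injective _ N.subtype_injective] at hle
    exact R.ne_bot_of_dvd_card hpN hle
  haveI : ((((Q : Subgroup M) ⊓ N).subgroupOf (Q : Subgroup M))).Normal := by
    rw [Subgroup.inf_subgroupOf_left]
    infer_instance
  haveI : Group.IsNilpotent (Q : Subgroup M) := Q.2.isNilpotent
  have hne' : ((Q : Subgroup M) ⊓ N).subgroupOf (Q : Subgroup M) ≠ ⊥ := by
    rw [Ne, Subgroup.subgroupOf_eq_bot, disjoint_iff, inf_eq_left.2 inf_le_left]
    exact hne
  have hz := CfsgLib.Critical.inf_center_ne_bot _ hne'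
  obtain ⟨⟨z, hzmem⟩, hz1⟩ := Subgroup.ne_bot_iff_exists_ne_one.1 hz
  have hzF : ((z : M) : G) ∈ F M := by
    have := (Subgroup.mem_inf.1 hzmem).1
    exact Subgroup.mem_subgroupOf.1 (Subgroup.mem_inf.1 (Subgroup.mem_subgroupOf.1 this)).2
  have haQ : (⟨a, hPM ha⟩ : M) ∈ (Q : Subgroup M) := hQ (Subgroup.mem_subgroupOf.2 ha)
  have hcomm := congrArg (fun w : (Q : Subgroup M) => ((w : M) : G))
    (Subgroup.mem_center_iff.1 (Subgroup.mem_inf.1 hzmem).2 ⟨_, haQ⟩)
  have := h.fpf M hM a (hPM ha) haF _ hzF hcomm.symm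
  exact hz1 (Subtype.ext (Subtype.ext (Subtype.ext this)))

/-- In a non-solvable group the kernel is proper. -/
theorem proper (hns : ¬ Group.IsSolvable G) : F M ≠ M := by
  intro e
  have hne : M ≠ ⊥ := by
    intro hb
    obtain ⟨g, hg⟩ : ∃ g : G, g ≠ 1 := by
      by_contra hall
      push Not at hall
      exact hns (Group.isSolvable_of_comm fun a b => by rw [hall a, hall b])
    have hsolv : Group.IsSolvable (Subgroup.zpowers g) := by
      haveI : IsMulCommutative (Subgroup.zpowers g) := IsCyclic.isMulCommutative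
      exact Group.isSolvable_of_comm fun a b => mul_comm' a b
    refine hM.2 _ ?_ hsolv
    rw [hb, bot_lt_iff_ne_bot]
    exact fun e' => hg (Subgroup.zpowers_eq_bot.1 e')
  have htop : M ≠ ⊤ := by
    intro ht
    haveI := hM.1
    exact hns (Group.isSolvable_of_surjective (f := M.subtype) fun x => ⟨⟨x, ht ▸ Subgroup.mem_top x⟩, rfl⟩)
  have hF : Cfsg.IsFrobeniusComplement M := ⟨hne, htop, fun g hg => by
    have := h.ti M hM g hg
    rwa [e] at this⟩
  obtain ⟨N, -, hN, hc⟩ := CfsgLib.FrobCompl.exists_kernel_complement hF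
  haveI := hN
  have hnil := CfsgLib.FrobCompl.kernel_isNilpotent hF hN hc
  haveI : Group.IsSolvable N := inferInstance
  haveI := hM.1
  haveI : Group.IsSolvable (G ⧸ N) := by
    refine Group.isSolvable_of_surjective (f := (QuotientGroup.mk' N).comp M.subtype) fun y => ?_
    obtain ⟨x, rfl⟩ := QuotientGroup.mk_surjective y
    obtain ⟨⟨⟨n, hn⟩, ⟨m, hm⟩⟩, hnm⟩ := hc.2 x
    refine ⟨⟨m, hm⟩, QuotientGroup.eq.2 ?_⟩
    rw [← hnm]
    have := hN.conj_mem n hn m⁻¹
    simpa [mul_assoc] using this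
  exact hns (Group.isSolvable_of_ker_le_range N.subtype (QuotientGroup.mk' N)
    (by rw [QuotientGroup.ker_mk', Subgroup.range_subtype]))

theorem kernel_nilpotent (hns : ¬ Group.IsSolvable G) : Group.IsNilpotent (F M) := by
  rcases subsingleton_or_nontrivial (F M) with hs | hs
  · exact Group.isNilpotent_of_subsingleton
  set N := (F M).subgroupOf M with hNdef
  haveI hN : N.Normal := Subgroup.normal_subgroupOf_iff_le_normalizer (h.le M hM) |>.2 (h.norm M hM)
  have hidx : N.index ≠ 1 := fun e => proper h hM hns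
    (le_antisymm (h.le M hM) (Subgroup.subgroupOf_eq_top.1 (Subgroup.index_eq_one.1 e)))
  obtain ⟨p, hp, hpd⟩ := Nat.exists_prime_and_dvd hidx
  haveI := Fact.mk hp
  have hpF : ¬ p ∣ Nat.card (F M) := by
    intro hd
    obtain ⟨Q⟩ : Nonempty (Sylow p M) := inferInstance
    have hle : (Q : Subgroup M) ≤ N := fun x hx =>
      Subgroup.mem_subgroupOf.2 (pgroup_le h hM hd (Q.2.map M.subtype) (Subgroup.map_subtype_le _) ⟨x, hx, rfl⟩)
    exact Q.not_dvd_index (hpd.trans (Subgroup.index_dvd_of_le hle))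
  obtain ⟨⟨a, haM⟩, ha⟩ := exists_prime_orderOf_dvd_card' (G := M) p
    (hpd.trans (Subgroup.index_dvd_card N))
  rw [Subgroup.orderOf_mk] at ha
  have ha1 : a ≠ 1 := fun e => by rw [e, orderOf_one] at ha; exact hp.ne_one ha.symm
  have haF : a ∉ F M := fun hm => hpF (ha ▸ Subgroup.orderOf_dvd_natCard _ hm)
  let φ : MulAut (F M) :=
    { toFun := fun x => ⟨a * x * a⁻¹, (Subgroup.mem_normalizer_iff.1 (h.norm M hM haM) x).1 x.2⟩
      invFun := fun x => ⟨a⁻¹ * x * a, by
        have := (Subgroup.mem_normalizer_iff.1 (h.norm M hM (inv_mem haM)) x).1 x.2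
        rwa [inv_inv] at this⟩
      left_inv := fun x => Subtype.ext (by simp [mul_assoc])
      right_inv := fun x => Subtype.ext (by simp [mul_assoc])
      map_mul' := fun x y => Subtype.ext (by simp [mul_assoc]) }
  have hφk : ∀ (k : ℕ) (x : F M), ((φ ^ k) x : G) = a ^ k * x * (a ^ k)⁻¹ := by
    intro k
    induction k with
    | zero => intro x; simp
    | succ k ih =>
      intro x
      rw [pow_succ', MulAut.mul_apply]
      show a * ((φ ^ k) x : G) * a⁻¹ = _
      rw [ih, pow_succ']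
      group
  have hfix : MonoidHom.FixedPointFree (φ : F M →* F M) := by
    intro x hx
    have hx' : a * (x : G) * a⁻¹ = x := congrArg Subtype.val hx
    exact Subtype.ext (h.fpf M hM a haM haF _ x.2 (mul_inv_eq_iff_eq_mul.1 hx').symm)
  have hφp : φ ^ p = 1 := by
    apply MulEquiv.ext
    intro x
    apply Subtype.ext
    rw [hφk, ← ha, pow_orderOf_eq_one]
    simp
  have hφ1 : φ ≠ 1 := by
    intro e
    obtain ⟨x, hx⟩ := exists_ne (1 : F M)
    exact hx (hfix x (by rw [e]; rfl))
  exact Cfsg.Agent.S0033.result φ hfix p hp (orderOf_eq_prime hφp hφ1)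

/-- The module on which the part of `M` outside the kernel acts fixed point freely. -/
theorem exists_module (hns : ¬ Group.IsSolvable G) (hne : F M ≠ ⊥) :
    ∃ V : Subgroup G, IsMulCommutative V ∧ V ≠ ⊥ ∧ M ≤ Subgroup.normalizer (V : Set G) ∧
      ∀ e ∈ M, e ∉ F M → V ⊓ Subgroup.centralizer ({e} : Set G) = ⊥ := by
  haveI := kernel_nilpotent h hM hns
  haveI : Nontrivial (F M) := (Subgroup.nontrivial_iff_ne_bot _).2 hne
  refine ⟨(Subgroup.center (F M)).map (F M).subtype, ⟨⟨?_⟩⟩, ?_, ?_, ?_⟩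
  · rintro ⟨a, a', ha, rfl⟩ ⟨b, b', hb, rfl⟩
    exact Subtype.ext (congrArg Subtype.val (Subgroup.mem_center_iff.1 ha b')).symm
  · rw [ne_eq, Subgroup.map_eq_bot_iff_of_injective _ (F M).subtype_injective]
    intro e
    have h1 := CfsgLib.Critical.inf_center_ne_bot (⊤ : Subgroup (F M)) top_ne_bot
    rw [top_inf_eq] at h1
    exact h1 e
  · intro m hm
    rw [Subgroup.mem_normalizer_iff_map_conj_eq]
    refine Subgroup.eq_of_le_of_card_ge ?_
      (le_of_eq (Subgroup.card_map_of_injective (MulAut.conj m).injective).symm)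
    rintro _ ⟨_, ⟨c, hc, rfl⟩, rfl⟩
    have hmem : m * (c : G) * m⁻¹ ∈ F M := (Subgroup.mem_normalizer_iff.1 (h.norm M hM hm) c).1 c.2
    refine ⟨⟨_, hmem⟩, Subgroup.mem_center_iff.2 fun y => Subtype.ext ?_, rfl⟩
    have hy : m⁻¹ * (y : G) * m ∈ F M := by
      have := (Subgroup.mem_normalizer_iff.1 (h.norm M hM (inv_mem hm)) y).1 y.2
      rwa [inv_inv] at this
    have := congrArg Subtype.val (Subgroup.mem_center_iff.1 hc ⟨_, hy⟩)
    simp only [Subgroup.coe_mul] at this ⊢
    calc (y : G) * (m * c * m⁻¹) = m * (m⁻¹ * y * m * c) * m⁻¹ := by group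
      _ = m * (c * (m⁻¹ * y * m)) * m⁻¹ := by rw [this]
      _ = m * c * m⁻¹ * y := by group
  · intro e he heF
    rw [eq_bot_iff]
    rintro x ⟨hx, hxc⟩
    exact Subgroup.mem_bot.2 (h.fpf M hM e he heF x (Subgroup.map_subtype_le _ hx)
      (Subgroup.mem_centralizer_singleton_iff.1 hxc))

/-- A subgroup of `M` meeting the kernel trivially acts fixed point freely. -/
theorem exists_fpf (hns : ¬ Group.IsSolvable G) (hne : F M ≠ ⊥) {S : Subgroup G} (hSM : S ≤ M)
    (hS : S ⊓ F M = ⊥) :
    ∃ V : Subgroup G, IsMulCommutative V ∧ V ≠ ⊥ ∧ S ≤ Subgroup.normalizer (V : Set G) ∧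
      ∀ e ∈ S, e ≠ 1 → V ⊓ Subgroup.centralizer ({e} : Set G) = ⊥ := by
  obtain ⟨V, h1, h2, h3, h4⟩ := exists_module h hM hns hne
  refine ⟨V, h1, h2, hSM.trans h3, fun e he he1 => h4 e (hSM he) fun heF => he1 ?_⟩
  have : e ∈ S ⊓ F M := ⟨he, heF⟩
  rwa [hS, Subgroup.mem_bot] at this

end facts

/-- A group of odd order whose solvable subgroups are abelian or have cyclic Sylow subgroups is
solvable. -/
theorem solvable_of_local_aux : ∀ (n : ℕ) (X : Type u) [Group X] [Finite X], Nat.card X ≤ n →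
    (∀ S : Subgroup X, Group.IsSolvable S → IsMulCommutative S ∨ IsZGroup S) → Group.IsSolvable X := by
  intro n
  induction n with
  | zero => intro X _ _ h; exact absurd (Nat.card_pos (α := X)) (by omega)
  | succ n ih =>
    intro X _ _ hle hS
    rcases subsingleton_or_nontrivial X with hs | hs
    · exact Group.isSolvable_of_comm fun a b => Subsingleton.elim _ _
    set p := (Nat.card X).minFac with hp'
    have hp : p.Prime := Nat.minFac_prime (Finite.one_lt_card (α := X)).ne'
    haveI := Fact.mk hp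
    obtain ⟨P⟩ : Nonempty (Sylow p X) := inferInstance
    have hPsol : Group.IsSolvable (P : Subgroup X) := by
      haveI := P.2.isNilpotent
      infer_instance
    have hPc : IsMulCommutative (P : Subgroup X) := by
      rcases hS _ hPsol with h | h
      · exact h
      · haveI := h
        haveI := P.2.isNilpotent
        haveI : IsCyclic (P : Subgroup X) := inferInstance
        exact IsCyclic.isMulCommutative
    have hN : Subgroup.normalizer ((P : Subgroup X) : Set X) ≤ Subgroup.centralizer ((P : Subgroup X) : Set X) := by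
      intro g hg
      rcases hS _ (isSolvable_sup_zpowers hPsol hg) with h | h
      · refine Subgroup.mem_centralizer_iff.2 fun x hx => ?_
        exact congrArg Subtype.val (mul_comm'
          (⟨x, Subgroup.mem_sup_left hx⟩ : ((P : Subgroup X) ⊔ Subgroup.zpowers g : Subgroup X))
          ⟨g, Subgroup.mem_sup_right (Subgroup.mem_zpowers g)⟩)
      · haveI := h
        haveI : IsZGroup (P : Subgroup X) :=
          IsZGroup.of_injective (Subgroup.inclusion_injective
            (le_sup_left : (P : Subgroup X) ≤ (P : Subgroup X) ⊔ Subgroup.zpowers g))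
        haveI := P.2.isNilpotent
        exact IsCyclic.normalizer_le_centralizer hp'.symm (inferInstance : IsCyclic (P : Subgroup X)) hg
    have hc := MonoidHom.ker_transferSylow_isComplement' P hN
    set K := (MonoidHom.transferSylow P hN).ker
    have hKlt : Nat.card K < Nat.card X := by
      have hPne : (P : Subgroup X) ≠ ⊥ := P.ne_bot_of_dvd_card (Nat.minFac_dvd _)
      rw [← hc.card_mul]
      exact lt_mul_of_one_lt_right Nat.card_pos ((P : Subgroup X).one_lt_card_iff_ne_bot.2 hPne)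
    haveI : Group.IsSolvable K := ih K (by omega) fun S hSsol => by
      haveI := hSsol
      have hsol : Group.IsSolvable (S.map K.subtype) :=
        Group.isSolvable_of_surjective
          (f := (S.equivMapOfInjective K.subtype K.subtype_injective).toMonoidHom) (MulEquiv.surjective _)
      rcases hS _ hsol with h | h
      · exact Or.inl ⟨⟨fun a b => (S.equivMapOfInjective K.subtype K.subtype_injective).injective
          (by rw [map_mul, map_mul]; exact mul_comm' _ _)⟩⟩
      · haveI := h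
        exact Or.inr (IsZGroup.of_injective
          (f := (S.equivMapOfInjective K.subtype K.subtype_injective).toMonoidHom) (MulEquiv.injective _))
    haveI := hPsol
    exact Group.isSolvable_of_ker_le_range K.subtype (MonoidHom.transferSylow P hN)
      (by rw [Subgroup.range_subtype])

theorem solvable_of_local (X : Type u) [Group X] [Finite X]
    (hS : ∀ S : Subgroup X, Group.IsSolvable S → IsMulCommutative S ∨ IsZGroup S) :
    Group.IsSolvable X := solvable_of_local_aux _ X le_rfl hS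

/-- A cyclic Sylow subgroup whose normaliser centralises its subgroup of order `p` is central in the
normaliser. -/
theorem normalizer_le_centralizer_of_omega [Finite G] {p : ℕ} [hp : Fact p.Prime] (Q : Sylow p G)
    [hQc : IsCyclic (Q : Subgroup G)] {z : G} (hz : z ∈ (Q : Subgroup G)) (hzp : orderOf z = p)
    (hc : ∀ g ∈ Subgroup.normalizer ((Q : Subgroup G) : Set G), g * z = z * g) :
    Subgroup.normalizer ((Q : Subgroup G) : Set G) ≤ Subgroup.centralizer ((Q : Subgroup G) : Set G) := by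
  intro g hg
  obtain ⟨⟨y, hy⟩, hgen⟩ := hQc.exists_generator
  have hgenG : ∀ x ∈ (Q : Subgroup G), ∃ i : ℤ, y ^ i = x := fun x hx => by
    obtain ⟨i, hi⟩ := Subgroup.mem_zpowers_iff.1 (hgen ⟨x, hx⟩)
    exact ⟨i, congrArg Subtype.val hi⟩
  obtain ⟨i, hi⟩ := hgenG _ ((Subgroup.mem_normalizer_iff.1 hg y).1 hy)
  obtain ⟨n, hn⟩ := IsPGroup.iff_card.1 Q.2
  have hoy : orderOf y = p ^ n := by
    rw [← hn, ← orderOf_eq_card_of_forall_mem_zpowers hgen, Subgroup.orderOf_mk]
  obtain ⟨m, rfl⟩ : ∃ m, n = m + 1 := by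
    refine ⟨n - 1, ?_⟩
    rcases Nat.eq_zero_or_pos n with rfl | h
    · exfalso
      have : y = 1 := orderOf_eq_one_iff.1 (by rw [hoy, pow_zero])
      obtain ⟨j, hj⟩ := hgenG z hz
      rw [this, one_zpow] at hj
      rw [← hj, orderOf_one] at hzp
      exact hp.out.ne_one hzp.symm
    · omega
  obtain ⟨j, hj⟩ := hgenG z hz
  -- `j` is `p ^ m` times a unit
  have hjp : ((p ^ (m + 1) : ℕ) : ℤ) ∣ j * p := by
    rw [← hoy, orderOf_dvd_iff_zpow_eq_one, zpow_mul, hj, zpow_natCast, ← hzp, pow_orderOf_eq_one]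
  have hpz : (p : ℤ) ≠ 0 := Int.natCast_ne_zero.2 hp.out.ne_zero
  obtain ⟨j', rfl⟩ : ((p ^ m : ℕ) : ℤ) ∣ j := by
    push_cast at hjp ⊢
    rw [pow_succ] at hjp
    exact (mul_dvd_mul_iff_right hpz).1 hjp
  have hj' : ¬ (p : ℤ) ∣ j' := by
    rintro ⟨k, rfl⟩
    rw [← mul_assoc, zpow_mul,
      show y ^ (((p ^ m : ℕ) : ℤ) * p) = 1 by
        rw [← orderOf_dvd_iff_zpow_eq_one, hoy]; push_cast; rw [pow_succ], one_zpow] at hj
    rw [← hj, orderOf_one] at hzp
    exact hp.out.ne_one hzp.symm
  have hgz := hc g hg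
  rw [← hj] at hgz
  have h1 : (g * y * g⁻¹) ^ (((p ^ m : ℕ) : ℤ) * j') = y ^ (((p ^ m : ℕ) : ℤ) * j') := by
    rw [conj_zpow, hgz, mul_inv_cancel_right]
  rw [← hi, ← zpow_mul] at h1
  have h2 : (p : ℤ) ∣ i - 1 := by
    have h3 : ((p ^ (m + 1) : ℕ) : ℤ) ∣ i * (((p ^ m : ℕ) : ℤ) * j') - ((p ^ m : ℕ) : ℤ) * j' := by
      rw [← hoy, orderOf_dvd_iff_zpow_eq_one, zpow_sub, h1, mul_inv_cancel]
    have e : i * (((p ^ m : ℕ) : ℤ) * j') - ((p ^ m : ℕ) : ℤ) * j' = (i - 1) * j' * (p : ℤ) ^ m := by
      push_cast; ring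
    rw [e] at h3
    push_cast at h3
    rw [pow_succ', mul_dvd_mul_iff_right (pow_ne_zero _ hpz)] at h3
    rcases (Nat.prime_iff_prime_int.1 hp.out).dvd_mul.1 h3 with h | h
    · exact h
    · exact absurd h hj'
  have hconjk : ∀ k : ℕ, g ^ k * y * (g ^ k)⁻¹ = y ^ (i ^ k) := by
    intro k
    induction k with
    | zero => simp
    | succ k ih =>
      rw [pow_succ', show g * g ^ k * y * (g * g ^ k)⁻¹ = g * (g ^ k * y * (g ^ k)⁻¹) * g⁻¹ by group,
        ih, ← conj_zpow, ← hi, ← zpow_mul, pow_succ']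
  have hgk : g ^ p ^ m ∈ Subgroup.centralizer ((Q : Subgroup G) : Set G) := by
    have h4 : y ^ (i ^ p ^ m) = y := by
      have h5 : ((p ^ (m + 1) : ℕ) : ℤ) ∣ i ^ p ^ m - 1 := by
        have := dvd_sub_pow_of_dvd_sub (p := p) (a := i) (b := 1) h2 m
        push_cast at this ⊢
        simpa using this
      rw [← hoy, orderOf_dvd_iff_zpow_eq_one, zpow_sub, zpow_one, mul_inv_eq_one] at h5
      exact h5
    refine Subgroup.mem_centralizer_iff.2 fun x hx => ?_
    obtain ⟨k, rfl⟩ := hgenG x hx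
    have h6 := hconjk (p ^ m)
    rw [h4, mul_inv_eq_iff_eq_mul] at h6
    exact ((show Commute (g ^ p ^ m) y from h6).zpow_right k).eq.symm
  -- the order of `g` modulo the centraliser is prime to `p`
  set Nz := Subgroup.normalizer ((Q : Subgroup G) : Set G)
  set C := (Subgroup.centralizer ((Q : Subgroup G) : Set G)).subgroupOf Nz
  haveI : C.Normal := by
    refine ⟨fun c hc' x => Subgroup.mem_subgroupOf.2 (Subgroup.mem_centralizer_iff.2 fun w hw => ?_)⟩
    have hw' : (x : G)⁻¹ * w * x ∈ (Q : Subgroup G) := by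
      have := (Subgroup.mem_normalizer_iff.1 (inv_mem x.2) w).1 hw
      rwa [inv_inv] at this
    have := Subgroup.mem_centralizer_iff.1 (Subgroup.mem_subgroupOf.1 hc') _ hw'
    show w * ((x : G) * c * (x : G)⁻¹) = (x : G) * c * (x : G)⁻¹ * w
    calc w * ((x : G) * c * (x : G)⁻¹) = (x : G) * ((x : G)⁻¹ * w * x * c) * (x : G)⁻¹ := by group
      _ = (x : G) * (c * ((x : G)⁻¹ * w * x)) * (x : G)⁻¹ := by rw [this]
      _ = _ := by group
  have hcop : ¬ p ∣ C.index := by
    intro hd
    refine Q.not_dvd_index (hd.trans ?_)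
    have hQC : (Q : Subgroup G) ≤ Subgroup.centralizer ((Q : Subgroup G) : Set G) := by
      haveI : IsMulCommutative (Q : Subgroup G) := IsCyclic.isMulCommutative
      exact fun x hx => Subgroup.mem_centralizer_iff.2 fun w hw =>
        congrArg Subtype.val (mul_comm' (⟨w, hw⟩ : (Q : Subgroup G)) ⟨x, hx⟩)
    have h1 : C.index ∣ ((Q : Subgroup G).subgroupOf Nz).index :=
      Subgroup.index_dvd_of_le (fun x hx => hQC (Subgroup.mem_subgroupOf.1 hx))
    exact h1.trans (Subgroup.relIndex_dvd_index_of_le Subgroup.le_normalizer)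
  have hcls : (QuotientGroup.mk (⟨g, hg⟩ : Nz) : Nz ⧸ C) ^ p ^ m = 1 := by
    rw [← QuotientGroup.mk_pow, QuotientGroup.eq_one_iff, Subgroup.mem_subgroupOf]
    exact hgk
  have h7 : orderOf (QuotientGroup.mk (⟨g, hg⟩ : Nz) : Nz ⧸ C) = 1 :=
    Nat.eq_one_of_dvd_coprimes
      ((hp.out.coprime_iff_not_dvd.2 hcop).pow_left m)
      (orderOf_dvd_of_pow_eq_one hcls) (by rw [Subgroup.index_eq_card]; exact orderOf_dvd_natCard _)
  exact Subgroup.mem_subgroupOf.1 ((QuotientGroup.eq_one_iff _).1 (orderOf_eq_one_iff.1 h7))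

end Cfsg.Agent.FrobSys
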