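import Cfsg.Agent.Lib.FrobSys.Odd
import Cfsg.Agent.S0215
import Cfsg.Agent.Lib.SylowNumber.Coprime
import Cfsg.Agent.Lib.Invol.CAClass
import Cfsg.Agent.Lib.Invol.StronglyEmbedded
import Cfsg.Agent.Lib.Coprime.Generation

/-!
# Frobenius systems in a non-solvable group

Some kernel has even order; that kernel is the centraliser of each of its involutions, the maximal
solvable subgroup over it is strongly embedded, and the group is simple.
-/

set_option autoImplicit false
set_option linter.unusedSectionVars false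
set_option linter.style.haveILetI false

open Cfsg
open scoped Pointwise

namespace Cfsg.Agent.FrobSys

open CfsgLib.Invol.CASimple (invA nA involution_iff mem_cent cent_conj mem_of_sq_one)

universe u

variable {G : Type u} [Group G] [Finite G] {F : Subgroup G → Subgroup G} (h : Sys F)
  (hns : ¬ Group.IsSolvable G)
include h hns

theorem isSolvable_of_isPGroup {p : ℕ} [Fact p.Prime] {S : Subgroup G} (hS : IsPGroup p S) :
    Group.IsSolvable S := by
  haveI := hS.isNilpotent
  infer_instance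

theorem false_of_quotient {N : Subgroup G} [N.Normal] (hN : Group.IsSolvable N)
    (hq : Group.IsSolvable (G ⧸ N)) : False := by
  haveI := hN
  haveI := hq
  exact hns (Group.isSolvable_of_ker_le_range N.subtype (QuotientGroup.mk' N)
    (by rw [QuotientGroup.ker_mk', Subgroup.range_subtype]))

theorem false_of_sup_eq_top {N K : Subgroup G} [N.Normal] (hN : Group.IsSolvable N)
    (hK : Group.IsSolvable K) (htop : ∀ g : G, g ∈ K ⊔ N) : False := by
  refine false_of_quotient h hns hN ?_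
  haveI := hK
  refine Group.isSolvable_of_surjective (f := (QuotientGroup.mk' N).comp K.subtype) fun y => ?_
  obtain ⟨g, rfl⟩ := QuotientGroup.mk_surjective y
  have hg : g ∈ (↑(K ⊔ N) : Set G) := htop g
  rw [Subgroup.mul_normal] at hg
  obtain ⟨k, hk, n, hn, rfl⟩ := Set.mem_mul.1 hg
  refine ⟨⟨k, hk⟩, ?_⟩
  show QuotientGroup.mk k = _
  rw [QuotientGroup.eq]
  simpa using hn

/-- Some kernel has even order. -/
theorem exists_even_kernel : ∃ M, MaxSol M ∧ 2 ∣ Nat.card (F M) := by
  classical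
  haveI : Fact (Nat.Prime 2) := ⟨Nat.prime_two⟩
  by_contra hno
  push Not at hno
  have hodd1 : ∀ M, MaxSol M → ∀ x ∈ F M, x * x = 1 → x = 1 := fun M hM x hx hxx => by
    by_contra hx1
    refine hno M hM ?_
    rw [← involution_iff.2 ⟨hxx, hx1⟩]
    exact Subgroup.orderOf_dvd_natCard _ hx
  obtain ⟨S⟩ : Nonempty (Sylow 2 G) := inferInstance
  by_cases hcen : Subgroup.normalizer ((S : Subgroup G) : Set G) ≤
      Subgroup.centralizer ((S : Subgroup G) : Set G)
  · -- transfer
    have hc := MonoidHom.ker_transferSylow_isComplement' S hcen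
    set φ := MonoidHom.transferSylow S hcen
    have hoddK : Odd (Nat.card φ.ker) := by
      have h1 := hc.card_mul
      rw [← (S : Subgroup G).index_mul_card] at h1
      rw [Nat.eq_of_mul_eq_mul_right Nat.card_pos h1, ← Nat.not_even_iff_odd, even_iff_two_dvd]
      exact S.not_dvd_index
    haveI := solvable_of_odd h hns hoddK
    haveI := isSolvable_of_isPGroup h hns S.2
    exact hns (Group.isSolvable_of_ker_le_range φ.ker.subtype φ (Subgroup.range_subtype _).ge)
  obtain ⟨g, hgN, hgC⟩ := SetLike.not_le_iff_exists.1 hcen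
  obtain ⟨s, hs, hsg⟩ : ∃ s ∈ (S : Subgroup G), s * g ≠ g * s := by
    by_contra hall
    push Not at hall
    exact hgC (Subgroup.mem_centralizer_iff.2 hall)
  obtain ⟨M, hM, hle⟩ := exists_maxSol (isSolvable_sup_zpowers (isSolvable_of_isPGroup h hns S.2) hgN)
  have hSM : (S : Subgroup G) ≤ M := le_sup_left.trans hle
  have hgM : g ∈ M := hle (le_sup_right (a := (S : Subgroup G)) (Subgroup.mem_zpowers g))
  have hMnc : ¬ IsMulCommutative M := fun hc => hsg (by
    haveI := hc
    exact congrArg (Subtype.val : M → G) (mul_comm' (⟨s, hSM hs⟩ : M) ⟨g, hgM⟩))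
  have hFne : F M ≠ ⊥ := (h.ab M hM).resolve_right hMnc
  have hint : (S : Subgroup G) ⊓ F M = ⊥ := Subgroup.inf_eq_bot_of_coprime (by
    obtain ⟨k, hk⟩ := (IsPGroup.iff_card).1 S.2
    rw [hk]
    exact ((Nat.prime_two.coprime_iff_not_dvd).2 (hno M hM)).pow_left k)
  obtain ⟨V, hVc, hV, hSV, hfpf⟩ := exists_fpf h hM hns hFne hSM hint
  haveI := hVc
  have hSne : 2 ∣ Nat.card (S : Subgroup G) := by
    refine (S.2.card_eq_or_dvd).resolve_left fun e => hsg ?_
    rw [Subgroup.eq_bot_of_card_eq _ e, Subgroup.mem_bot] at hs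
    rw [hs, one_mul, mul_one]
  obtain ⟨⟨t, htS⟩, ht'⟩ := exists_prime_orderOf_dvd_card' 2 hSne
  rw [← Subgroup.orderOf_coe] at ht'
  change orderOf t = 2 at ht'
  obtain ⟨htt, ht1⟩ := involution_iff.1 ht'
  have hti : t⁻¹ = t := inv_eq_of_mul_eq_one_right htt
  have hiso : ∀ g : G, g * t * g⁻¹ ∈ S → g * t * g⁻¹ = t := fun g hg =>
    invol_unique hV hSV hfpf hg htS (involution_iff.2 ⟨by
      rw [show g * t * g⁻¹ * (g * t * g⁻¹) = g * (t * t) * g⁻¹ by group, htt, mul_one, mul_inv_cancel],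
      fun e => ht1 (conj_eq_one_iff.1 e)⟩) ht'
  obtain ⟨N, hN, hNodd, hNc⟩ := Cfsg.Agent.S0215.result S t ht' htS hiso
  haveI := hN
  have hNsol := solvable_of_odd h hns hNodd
  by_cases hNt : ∀ n ∈ N, n * t = t * n
  · -- `t` is central
    have hcentral : ∀ g : G, g * t = t * g := by
      intro g
      have hn := hNc g
      rw [hti] at hn
      set y := g * t * g⁻¹ with hy
      have hyy : y * y = 1 := by
        rw [hy, show g * t * g⁻¹ * (g * t * g⁻¹) = g * (t * t) * g⁻¹ by group, htt, mul_one,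
          mul_inv_cancel]
      rw [show t * g * t * g⁻¹ = t * y by rw [hy]; group] at hn
      have hc := hNt _ hn
      have hy2 : y = t * (t * y) := by rw [← mul_assoc, htt, one_mul]
      have hn2 : t * y * (t * y) = 1 := by
        calc t * y * (t * y) = t * y * t * y := (mul_assoc _ _ _).symm
          _ = t * (t * y) * y := by rw [hc]
          _ = (t * t) * (y * y) := by group
          _ = 1 := by rw [htt, hyy, one_mul]
      have hn1 : t * y = 1 := by
        by_contra hne
        refine Nat.not_even_iff_odd.2 hNodd (even_iff_two_dvd.2 ?_)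
        rw [← involution_iff.2 ⟨hn2, hne⟩]
        exact Subgroup.orderOf_dvd_natCard _ hn
      rw [hn1, mul_one, hy, mul_inv_eq_iff_eq_mul] at hy2
      exact hy2
    refine hFne ?_
    have htM : t ∈ M := by
      have htn : t ∈ Subgroup.normalizer (M : Set G) := Subgroup.centralizer_le_normalizer _
        (Subgroup.mem_centralizer_iff.2 fun x _ => hcentral x)
      by_contra htM
      exact hM.2 _ (lt_of_le_of_ne le_sup_left fun e => htM (by
        rw [e]; exact le_sup_right (a := M) (Subgroup.mem_zpowers t))) (isSolvable_sup_zpowers hM.1 htn)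
    rw [Subgroup.eq_bot_iff_forall]
    exact fun x hx => h.fpf M hM t htM (fun htF => ht1 (hodd1 M hM t htF htt)) x hx (hcentral x)
  -- a Sylow subgroup of `N` that `t` normalises and does not centralise
  have htP : IsPGroup 2 (Subgroup.zpowers t) := isPGroup_zpowers_prime ht'
  have htN : Subgroup.zpowers t ≤ Subgroup.normalizer (N : Set G) := by
    rw [Subgroup.normalizer_eq_top (H := N)]; exact le_top
  have hN2 : ¬ 2 ∣ Nat.card N := fun hd => Nat.not_even_iff_odd.2 hNodd (even_iff_two_dvd.2 hd)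
  obtain ⟨r, hr, R, hRN, hRt⟩ : ∃ r : ℕ, ∃ _ : Fact r.Prime, ∃ R : Sylow r N,
      Subgroup.zpowers t ≤ Subgroup.normalizer (((R : Subgroup N).map N.subtype : Subgroup G) : Set G) ∧
        ¬ (R : Subgroup N).map N.subtype ≤ Subgroup.centralizer ({t} : Set G) := by
    by_contra hall
    push Not at hall
    refine hNt fun n hn => ?_
    suffices hd : Nat.card N ∣ Nat.card ↥(N ⊓ Subgroup.centralizer ({t} : Set G)) by
      have he := Subgroup.eq_of_le_of_card_ge (inf_le_left : N ⊓ Subgroup.centralizer ({t} : Set G) ≤ N)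
        (Nat.le_of_dvd Nat.card_pos hd)
      exact Subgroup.mem_centralizer_singleton_iff.1 (inf_eq_left.1 he hn)
    rw [← Nat.factorization_le_iff_dvd Nat.card_pos.ne' Nat.card_pos.ne']
    intro r
    by_cases hr : r.Prime
    · haveI := Fact.mk hr
      obtain ⟨R, hR⟩ := CfsgLib.SylowNumber.exists_invariant_sylow (r := r) htP htN hN2
      have hle : (R : Subgroup N).map N.subtype ≤ N ⊓ Subgroup.centralizer ({t} : Set G) :=
        le_inf (Subgroup.map_subtype_le _) (hall r ⟨hr⟩ R hR)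
      refine (hr.pow_dvd_iff_le_factorization Nat.card_pos.ne').1 ?_
      have := Subgroup.card_dvd_of_le hle
      rwa [Subgroup.card_map_of_injective N.subtype_injective, R.card_eq_multiplicity] at this
    · simp [Nat.factorization_eq_zero_of_not_prime _ hr]
  set R' := (R : Subgroup N).map N.subtype with hR'
  have hRp : IsPGroup r R' := R.2.map _
  have htR : t ∈ Subgroup.normalizer (R' : Set G) := hRN (Subgroup.mem_zpowers t)
  obtain ⟨M1, hM1, hle1⟩ :=
    exists_maxSol (isSolvable_sup_zpowers (isSolvable_of_isPGroup h hns hRp) htR)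
  obtain ⟨a, haR, hat⟩ := SetLike.not_le_iff_exists.1 hRt
  have haM : a ∈ M1 := hle1 (le_sup_left (b := Subgroup.zpowers t) haR)
  have htM1 : t ∈ M1 := hle1 (le_sup_right (a := R') (Subgroup.mem_zpowers t))
  have hF1 : F M1 ≠ ⊥ := (h.ab M1 hM1).resolve_right fun hc => hat (by
    haveI := hc
    exact Subgroup.mem_centralizer_singleton_iff.2
      (congrArg (Subtype.val : M1 → G) (mul_comm' (⟨a, haM⟩ : M1) ⟨t, htM1⟩)))
  have hrd : r ∣ Nat.card (F M1) := by
    by_contra hrd
    have hRint : R' ⊓ F M1 = ⊥ := Subgroup.inf_eq_bot_of_coprime (by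
      obtain ⟨k, hk⟩ := (IsPGroup.iff_card).1 hRp
      rw [hk]
      exact ((hr.out.coprime_iff_not_dvd).2 hrd).pow_left k)
    have hint1 : (R' ⊔ Subgroup.zpowers t) ⊓ F M1 = ⊥ := by
      rw [Subgroup.eq_bot_iff_forall]
      rintro e ⟨he, heF⟩
      have he' : e ∈ (↑(R' ⊔ Subgroup.zpowers t) : Set G) := he
      rw [Subgroup.coe_mul_of_right_le_normalizer_left _ _ (Subgroup.zpowers_le.2 htR)] at he'
      obtain ⟨b, hb, x, hx, rfl⟩ := Set.mem_mul.1 he'
      obtain ⟨i, rfl⟩ := Subgroup.mem_zpowers_iff.1 hx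
      rcases Int.even_or_odd i with ⟨j, hj⟩ | ⟨j, hj⟩
      · have hxi : t ^ i = 1 := by
          rw [hj, ← two_mul, zpow_mul]
          simp [zpow_two, pow_two, htt]
        rw [hxi, mul_one] at heF ⊢
        have : b ∈ R' ⊓ F M1 := ⟨hb, heF⟩
        rwa [hRint, Subgroup.mem_bot] at this
      · have hxi : t ^ i = t := by
          rw [hj, zpow_add, zpow_mul]
          simp [zpow_two, pow_two, htt]
        rw [hxi] at heF ⊢
        have h2 : b * t * (b * t) ∈ R' ⊓ F M1 := by
          refine ⟨?_, mul_mem heF heF⟩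
          have := mul_mem hb ((Subgroup.mem_normalizer_iff.1 htR b).1 hb)
          rwa [hti, show b * (t * b * t) = b * t * (b * t) by group] at this
        rw [hRint, Subgroup.mem_bot] at h2
        exact hodd1 M1 hM1 _ heF h2
    obtain ⟨V, hVc, hV, hSV, hfpf⟩ := exists_fpf h hM1 hns hF1 hle1 hint1
    haveI := hVc
    have hmem : a * t * a⁻¹ ∈ R' ⊔ Subgroup.zpowers t :=
      mul_mem (mul_mem (le_sup_left (b := Subgroup.zpowers t) haR)
        (le_sup_right (a := R') (Subgroup.mem_zpowers t)))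
        (inv_mem (le_sup_left (b := Subgroup.zpowers t) haR))
    have := invol_unique hV hSV hfpf hmem (le_sup_right (a := R') (Subgroup.mem_zpowers t))
      (involution_iff.2 ⟨by
        rw [show a * t * a⁻¹ * (a * t * a⁻¹) = a * (t * t) * a⁻¹ by group, htt, mul_one, mul_inv_cancel],
        fun e => ht1 (conj_eq_one_iff.1 e)⟩) ht'
    exact hat (Subgroup.mem_centralizer_singleton_iff.2 (mul_inv_eq_iff_eq_mul.1 this))
  have hRF : R' ≤ F M1 := pgroup_le h hM1 hrd hRp (le_sup_left.trans hle1)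
  have ha1 : a ≠ 1 := fun e => hat (e ▸ one_mem _)
  have hNR : Subgroup.normalizer (R' : Set G) ≤ M1 := fun g hg =>
    mem_of_inter h hM1 (hRF haR) (hRF ((Subgroup.mem_normalizer_iff.1 hg a).1 haR)) ha1
  refine false_of_sup_eq_top h hns hNsol hM1.1 fun g => ?_
  exact sup_le_sup_right hNR N ((Sylow.normalizer_sup_eq_top R).symm ▸ Subgroup.mem_top g)

/-- The set-up of a simple group with a strongly embedded subgroup. -/
theorem exists_simple_setup : IsSimpleGroup G ∧ ∃ (M : Subgroup G) (t : G), MaxSol M ∧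
    CfsgLib.Invol.CASimple.Setup (F M) t ∧ 2 ≤ (invA (F M)).ncard ∧ Group.IsNilpotent (F M) ∧
      ∃ T : Sylow 2 G, (T : Subgroup G) ≤ F M := by
  classical
  haveI : Fact (Nat.Prime 2) := ⟨Nat.prime_two⟩
  obtain ⟨M, hM, h2⟩ := exists_even_kernel h hns
  obtain ⟨⟨t, htA⟩, ht'⟩ := exists_prime_orderOf_dvd_card' 2 h2
  rw [← Subgroup.orderOf_coe] at ht'
  change orderOf t = 2 at ht'
  obtain ⟨htt, ht1⟩ := involution_iff.1 ht'
  have hne : F M ≠ ⊥ := fun e => ht1 (Subgroup.mem_bot.1 (e ▸ htA))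
  have hnA : nA (F M) = M := normalizer_eq h hM hne
  have hAM : F M ≤ M := h.le M hM
  have hMn : ∀ {y : G}, y ∈ M → y ∈ nA (F M) := fun {y} hy => hnA.symm.le hy
  have hnM : ∀ {y : G}, y ∈ nA (F M) → y ∈ M := fun {y} hy => hnA.le hy
  have hnil := kernel_nilpotent h hM hns
  have hcle : ∀ x ∈ F M, x ≠ 1 → Subgroup.centralizer ({x} : Set G) ≤ F M :=
    fun x hx hx1 => centralizer_le h hM hx hx1
  have hMtop : M ≠ ⊤ := fun e => hns (by
    haveI : Group.IsSolvable (⊤ : Subgroup G) := e ▸ hM.1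
    exact Group.isSolvable_of_surjective (f := (Subgroup.topEquiv (G := G)).toMonoidHom)
      (MulEquiv.surjective _))
  -- a Sylow subgroup inside the kernel
  obtain ⟨P, hP⟩ := (isPGroup_zpowers_prime (G := G) (p := 2) ht').exists_le_sylow
  have htP : t ∈ (P : Subgroup G) := hP (Subgroup.mem_zpowers t)
  have hPF : (P : Subgroup G) ⊓ M ≤ F M := pgroup_le h hM h2 (P.2.to_le inf_le_left) inf_le_right
  have hPA : (P : Subgroup G) ≤ F M := by
    suffices hPM : (P : Subgroup G) ≤ M from (le_inf le_rfl hPM).trans hPF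
    by_contra hPM
    haveI := P.2.isNilpotent
    have hlt : (M.subgroupOf (P : Subgroup G)) < ⊤ :=
      lt_top_iff_ne_top.2 fun e => hPM (Subgroup.subgroupOf_eq_top.1 e)
    obtain ⟨g, hgN, hg⟩ := SetLike.exists_of_lt (Group.normalizerCondition_of_isNilpotent _ hlt)
    refine hg (Subgroup.mem_subgroupOf.2 (mem_of_inter h hM htA ?_ ht1))
    have htM : (⟨t, htP⟩ : (P : Subgroup G)) ∈ M.subgroupOf (P : Subgroup G) := hAM htA
    exact hPF ⟨(P : Subgroup G).mul_mem ((P : Subgroup G).mul_mem g.2 htP) ((P : Subgroup G).inv_mem g.2),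
      (Subgroup.mem_normalizer_iff.1 hgN ⟨t, htP⟩).1 htM⟩
  have hodd : ¬ 2 ∣ (F M).index := fun hd =>
    P.not_dvd_index (hd.trans (Subgroup.index_dvd_of_le hPA))
  have hinv : ∀ y ∈ M, y * y = 1 → y ∈ F M := fun y hy hyy =>
    mem_of_sq_one hodd (hMn hy) hyy
  -- strongly embedded
  have hstr : Cfsg.IsStronglyEmbedded M := by
    refine ⟨hMtop, even_iff_two_dvd.2 (h2.trans (Subgroup.card_dvd_of_le hAM)), fun g hg => ?_⟩
    rw [← Nat.not_even_iff_odd, even_iff_two_dvd]
    intro hd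
    obtain ⟨⟨y, hy, x, hx, hxy⟩, hy2⟩ := exists_prime_orderOf_dvd_card' 2 hd
    rw [← Subgroup.orderOf_coe] at hy2
    change orderOf y = 2 at hy2
    have hxy' : g * x * g⁻¹ = y := hxy
    obtain ⟨hyy, hy1⟩ := involution_iff.1 hy2
    have hx1 : x ≠ 1 := fun e => hy1 (by rw [← hxy', e]; group)
    have hxx : x * x = 1 := by
      have : g * (x * x) * g⁻¹ = 1 := by rw [← hyy, ← hxy']; group
      exact conj_eq_one_iff.1 this
    exact hg (mem_of_inter h hM (hinv x hx hxx) (hxy' ▸ hinv y hy hyy) hx1)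
  obtain ⟨u, hu, huM⟩ := CfsgLib.Invol.strongly_exists_invol_not_mem hstr
  -- the involutions of the kernel are central
  obtain ⟨z, hzA, hz, hzc⟩ : ∃ z ∈ F M, orderOf z = 2 ∧ ∀ a ∈ F M, Commute a z := by
    haveI := hnil
    obtain ⟨T⟩ : Nonempty (Sylow 2 (F M)) := inferInstance
    haveI : (T : Subgroup (F M)).Normal := inferInstance
    have hne' := CfsgLib.Critical.inf_center_ne_bot (T : Subgroup (F M)) (T.ne_bot_of_dvd_card h2)
    haveI : Nontrivial ((T : Subgroup (F M)) ⊓ Subgroup.center (F M) : Subgroup (F M)) :=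
      (Subgroup.nontrivial_iff_ne_bot _).2 hne'
    have hp : IsPGroup 2 ((T : Subgroup (F M)) ⊓ Subgroup.center (F M) : Subgroup (F M)) :=
      T.2.to_le inf_le_left
    obtain ⟨z, hz⟩ := exists_prime_orderOf_dvd_card' 2
      ((hp.card_eq_or_dvd).resolve_left (Finite.one_lt_card).ne')
    refine ⟨((z : F M) : G), (z : F M).2, ?_, fun a ha => ?_⟩
    · rw [Subgroup.orderOf_coe, Subgroup.orderOf_coe, hz]
    · exact congrArg Subtype.val (Subgroup.mem_center_iff.1 z.2.2 ⟨a, ha⟩)
  have hcent : ∀ x ∈ F M, orderOf x = 2 → Subgroup.centralizer ({x} : Set G) = F M := by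
    intro x hx hx2
    obtain ⟨d, hd, rfl⟩ := CfsgLib.Invol.strongly_inter_transitive hstr hu huM hz (hAM hzA) hx2 (hAM hx)
    refine le_antisymm (hcle _ hx (involution_iff.1 hx2).2) fun a ha => ?_
    rw [cent_conj, mem_cent]
    refine hzc _ ?_
    have := (Subgroup.mem_normalizer_iff.1 ((nA (F M)).inv_mem (hMn hd.1)) a).1 ha
    rwa [inv_inv] at this
  have hnn : ¬ (F M).Normal := fun hn => hMtop (hnA.symm.trans (Subgroup.normalizer_eq_top_iff.2 hn))
  have hS : CfsgLib.Invol.CASimple.Setup (F M) t :=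
    { invC := fun x hx hxx hx1 => hcent x hx (involution_iff.2 ⟨hxx, hx1⟩)
      sq := htt
      ne := ht1
      eq := (hcent t htA ht').symm
      nonnormal := hnn
      sylow := hodd
      cle := fun x hx hx1 => (hcle x hx hx1).trans Subgroup.le_normalizer }
  -- at least two involutions
  have he : 2 ≤ (invA (F M)).ncard := by
    by_contra hlt
    have huniq : ∀ x ∈ F M, x * x = 1 → x ≠ 1 → x = t := fun x hx h1 h2 => by
      by_contra hne
      exact hlt ((Set.one_lt_ncard_iff (Set.toFinite _)).2 ⟨x, t, ⟨hx, h1, h2⟩, ⟨htA, htt, ht1⟩, hne⟩)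
    have hyy : ∀ g : G, orderOf (g * t * g⁻¹) = 2 := fun g => involution_iff.2 ⟨by
      rw [show g * t * g⁻¹ * (g * t * g⁻¹) = g * (t * t) * g⁻¹ by group, htt, mul_one, mul_inv_cancel],
      fun e => ht1 (conj_eq_one_iff.1 e)⟩
    obtain ⟨N, hN, hNodd, hNc⟩ := Cfsg.Agent.S0215.result P t ht' htP fun g hg =>
      huniq _ (hPA hg) (involution_iff.1 (hyy g)).1 (involution_iff.1 (hyy g)).2
    haveI := hN
    refine false_of_sup_eq_top h hns (solvable_of_odd h hns hNodd)
      (isSolvable_of_le hAM hM.1) fun g => ?_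
    have hn := hNc g
    rw [inv_eq_of_mul_eq_one_right htt, show t * g * t * g⁻¹ = t * (g * t * g⁻¹) by group] at hn
    obtain ⟨k, hk⟩ := CfsgLib.Invol.exists_zpow_conj_of_odd ht' (hyy g)
      (hNodd.of_dvd_nat (Subgroup.orderOf_dvd_natCard _ hn))
    set w := (t * (g * t * g⁻¹)) ^ k
    have hwg : w⁻¹ * g ∈ F M := hS.mem_of_commute htA htt ht1 (show Commute (w⁻¹ * g) t by
      show w⁻¹ * g * t = t * (w⁻¹ * g)
      rw [show w⁻¹ * g * t = w⁻¹ * (g * t * g⁻¹) * g by group, ← hk]
      group)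
    have : g = w * (w⁻¹ * g) := by group
    rw [this]
    exact mul_mem (le_sup_right (a := F M) (zpow_mem hn k)) (le_sup_left (b := N) hwg)
  refine ⟨?_, M, t, hM, hS, he, hnil, P, hPA⟩
  -- simplicity
  obtain ⟨x₀, s₀, hx₀, hs₀, hxs⟩ := (Set.one_lt_ncard_iff (Set.toFinite _)).1 he
  obtain ⟨s, hs, hst⟩ : ∃ s ∈ invA (F M), s ≠ t := by
    by_cases hx : x₀ = t
    · exact ⟨s₀, hs₀, fun e => hxs (hx.trans e.symm)⟩
    · exact ⟨x₀, hx₀, hx⟩
  haveI : Nontrivial G := ⟨⟨t, 1, ht1⟩⟩
  refine ⟨fun N hN => ?_⟩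
  haveI := hN
  rcases eq_or_ne N ⊥ with hb | hb
  · exact Or.inl hb
  right
  by_cases hN2 : 2 ∣ Nat.card N
  · obtain ⟨⟨w, hw⟩, hw2⟩ := exists_prime_orderOf_dvd_card' 2 hN2
    rw [← Subgroup.orderOf_coe] at hw2
    change orderOf w = 2 at hw2
    have hall : ∀ y : G, orderOf y = 2 → y ∈ N := fun y hy => by
      obtain ⟨g, hg⟩ := isConj_iff.1 (CfsgLib.Invol.strongly_isConj hstr hw2 hy)
      exact hg ▸ hN.conj_mem _ hw g
    have htM : t ∈ M := hAM htA
    have hui : u⁻¹ = u := inv_eq_of_mul_eq_one_right (involution_iff.1 hu).1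
    have hd : ∀ s ∈ invA (F M), ∃ d ∈ N, d ∈ M ∧ d * t * d⁻¹ = s := by
      intro s hs
      have hs2 : orderOf s = 2 := involution_iff.2 ⟨hs.2.1, hs.2.2⟩
      have hsM : s ∈ M := hAM hs.1
      set v := u * t * u⁻¹ with hv
      have hv2 : orderOf v = 2 := involution_iff.2 ⟨by
        rw [hv, show u * t * u⁻¹ * (u * t * u⁻¹) = u * (t * t) * u⁻¹ by group, htt, mul_one,
          mul_inv_cancel], fun e => ht1 (conj_eq_one_iff.1 e)⟩
      have hvM : v ∉ M := fun e => huM (CfsgLib.Invol.strongly_mem_of_conj_mem hstr ht' htM e)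
      have key : ∀ (x r : G), orderOf x = 2 → x ∈ M → r * x * r⁻¹ = v → u * r ∈ M := by
        intro x r hx hxM hr
        refine CfsgLib.Invol.strongly_mem_of_conj_mem hstr hx hxM ?_
        rw [show u * r * x * (u * r)⁻¹ = u * (r * x * r⁻¹) * u⁻¹ by group, hr, hv, hui,
          show u * (u * t * u) * u = (u * u) * t * (u * u) by group, (involution_iff.1 hu).1]
        simpa using htM
      obtain ⟨r₁, h1, e1⟩ := CfsgLib.Invol.strongly_exists_swapper hstr ht' htM hv2 hvM
      obtain ⟨r₂, h2', e2⟩ := CfsgLib.Invol.strongly_exists_swapper hstr hs2 hsM hv2 hvM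
      refine ⟨r₂⁻¹ * r₁, mul_mem (inv_mem (hall _ h2')) (hall _ h1), ?_, ?_⟩
      · have := mul_mem (inv_mem (key _ _ hs2 hsM e2)) (key _ _ ht' htM e1)
        rwa [show (u * r₂)⁻¹ * (u * r₁) = r₂⁻¹ * r₁ by group] at this
      · rw [show r₂⁻¹ * r₁ * t * (r₂⁻¹ * r₁)⁻¹ = r₂⁻¹ * (r₁ * t * r₁⁻¹) * r₂ by group, e1, ← e2]
        group
    obtain ⟨d, hdN, hdM, hdt⟩ := hd s hs
    have hdA : d ∉ F M := fun e => hst (by
      rw [← hdt, (hS.comm_invol e htA htt).eq, mul_inv_cancel_right])
    let φ : F M → F M := fun f => ⟨d * f * d⁻¹ * (f : G)⁻¹,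
      mul_mem ((Subgroup.mem_normalizer_iff.1 (hMn hdM) f).1 f.2) (inv_mem f.2)⟩
    have hφ : Function.Injective φ := by
      intro f g e
      have e' : d * (f : G) * d⁻¹ * (f : G)⁻¹ = d * (g : G) * d⁻¹ * (g : G)⁻¹ := congrArg Subtype.val e
      have hc : ((g : G)⁻¹ * f) * d = d * ((g : G)⁻¹ * f) :=
        calc (g : G)⁻¹ * f * d
            = (g : G)⁻¹ * (f : G) * d * ((f : G)⁻¹ * d⁻¹ * (d * (f : G))) := by group
          _ = (g : G)⁻¹ * (d * (f : G) * d⁻¹ * (f : G)⁻¹)⁻¹ * d * f := by group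
          _ = (g : G)⁻¹ * (d * (g : G) * d⁻¹ * (g : G)⁻¹)⁻¹ * d * f := by rw [e']
          _ = d * ((g : G)⁻¹ * f) := by group
      exact Subtype.ext (inv_mul_eq_one.1 (h.fpf M hM d hdM hdA _ (mul_mem (inv_mem g.2) f.2) hc)).symm
    have hAN : F M ≤ N := by
      intro a ha
      obtain ⟨f, hf⟩ := Finite.injective_iff_surjective.1 hφ ⟨a, ha⟩
      have e : d * (f : G) * d⁻¹ * (f : G)⁻¹ = a := congrArg Subtype.val hf
      rw [← e, show d * (f : G) * d⁻¹ * (f : G)⁻¹ = d * ((f : G) * d⁻¹ * (f : G)⁻¹) by group]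
      exact mul_mem hdN (hN.conj_mem _ (inv_mem hdN) _)
    have hMN : M ≤ N := by
      intro m hm
      have hms : m * t * m⁻¹ ∈ invA (F M) :=
        ⟨(Subgroup.mem_normalizer_iff.1 (hMn hm) t).1 htA, by
          rw [show m * t * m⁻¹ * (m * t * m⁻¹) = m * (t * t) * m⁻¹ by group, htt, mul_one,
            mul_inv_cancel], fun e => ht1 (conj_eq_one_iff.1 e)⟩
      obtain ⟨d', hd'N, -, hd't⟩ := hd _ hms
      have hc : d'⁻¹ * m ∈ F M := hS.mem_of_commute htA htt ht1 (show Commute (d'⁻¹ * m) t by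
        show d'⁻¹ * m * t = t * (d'⁻¹ * m)
        rw [show d'⁻¹ * m * t = d'⁻¹ * (m * t * m⁻¹) * m by group, ← hd't]
        group)
      have := mul_mem hd'N (hAN hc)
      rwa [mul_inv_cancel_left] at this
    refine top_le_iff.1 fun g _ => ?_
    by_cases hg : g ∈ M
    · exact hMN hg
    obtain ⟨v, hvv, hv1, hgv, -⟩ := hS.coset_invol (g := g) (fun e => hg (hnM e))
    have := mul_mem (hall v (involution_iff.2 ⟨hvv, hv1⟩)) (inv_mem (hMN (hnM hgv)))
    rwa [mul_inv_rev, inv_inv, ← mul_assoc, mul_inv_cancel, one_mul] at this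
  · exfalso
    let E : Subgroup G :=
      { carrier := {x | x ∈ F M ∧ x * x = 1}
        one_mem' := ⟨one_mem _, one_mul 1⟩
        mul_mem' := fun {a b} ha hb => ⟨mul_mem ha.1 hb.1, by
          rw [show a * b * (a * b) = a * (b * a) * b by group, ← (hS.comm_invol ha.1 hb.1 hb.2).eq,
            show a * (a * b) * b = (a * a) * (b * b) by group, ha.2, hb.2, one_mul]⟩
        inv_mem' := fun {a} ha => ⟨inv_mem ha.1, by rw [← mul_inv_rev, ha.2, inv_one]⟩ }
    haveI : IsMulCommutative E :=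
      ⟨⟨fun a b => Subtype.ext (hS.comm_invol a.2.1 b.2.1 b.2.2).eq⟩⟩
    have hEcyc : ¬ IsCyclic E := by
      intro hc
      haveI := hc
      haveI := Fintype.ofFinite E
      have h3 := IsCyclic.card_pow_eq_one_le (α := E) (n := 2) two_pos
      have hsub : ({(1 : E), ⟨t, htA, htt⟩, ⟨s, hs.1, hs.2.1⟩} : Finset E) ⊆
          Finset.univ.filter fun x : E => x ^ 2 = 1 := fun x _ =>
        Finset.mem_filter.2 ⟨Finset.mem_univ _, Subtype.ext (by
          rw [Subgroup.coe_pow, pow_two]; exact x.2.2)⟩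
      have h4 := (Finset.card_le_card hsub).trans h3
      rw [Finset.card_insert_of_notMem (by
          simp only [Finset.mem_insert, Finset.mem_singleton, not_or]
          exact ⟨fun e => ht1 (congrArg Subtype.val e).symm,
            fun e => hs.2.2 (congrArg Subtype.val e).symm⟩),
        Finset.card_pair (fun e => hst (congrArg Subtype.val e).symm)] at h4
      omega
    have hcop : (Nat.card E).Coprime (Nat.card N) := by
      obtain ⟨k, hk⟩ := (IsPGroup.iff_card (p := 2)).1 (fun x : E => ⟨1, Subtype.ext (by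
        rw [pow_one, Subgroup.coe_pow, pow_two]; exact x.2.2)⟩ : IsPGroup 2 E)
      rw [hk]
      exact ((Nat.prime_two.coprime_iff_not_dvd).2 hN2).pow_left k
    have hEN : E ≤ Subgroup.normalizer (N : Set G) := by
      rw [Subgroup.normalizer_eq_top (H := N)]; exact le_top
    have hle : N ≤ F M := CfsgLib.Coprime.le_of_centralizer_le hEcyc hEN hcop fun g hg hg1 =>
      inf_le_right.trans (hS.invC g hg.1 hg.2 hg1).le
    obtain ⟨⟨x, hx⟩, hx1⟩ := Subgroup.ne_bot_iff_exists_ne_one.1 hb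
    exact huM (mem_of_inter h hM (hle hx) (hle (hN.conj_mem x hx u)) fun e => hx1 (Subtype.ext e))

end Cfsg.Agent.FrobSys
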